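import Cfsg.Agent.Mrg.Omega.NO1.NatFiveA
import Cfsg.Agent.Mrg.Omega.Transv.Point
import Cfsg.Agent.Classification.ZNEndA

section


/-!
# Theorem NAT of NO-1', step (5), part C

* `Fv.lift_A` (`κ ≠ 0`): the transvections `(q, ψ)`, `ψ p = 0`, of `W1` are induced by `J ∩ C(V1)`.
* `Fv.parity`: this is impossible, because `S ∩ C(V1)` centralises a 2-space of functionals.
-/

set_option autoImplicit false
set_option linter.unusedSectionVars false

namespace Cfsg.Agent.Omega.NO1.NatFive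

open Subgroup Cfsg.Agent.Omega.Transv Cfsg.Agent.Omega.NO1.MiniMcL

universe u v

variable {G : Type u} [Group G]

variable {C J V V1 W Wc : Subgroup G} {z e : G} {M : Type v} [AddCommGroup M]
  [Module (ZMod 2) M] [DistribMulAction C M] {cl : G → M}

/-- the action of the Sylow group -/
structure Sy (S C J V V1 W : Subgroup G) (z e : G) : Prop where
  SC : S ≤ C
  SV : ∀ s ∈ S, ∀ v ∈ V, s * v * s⁻¹ ∈ V
  SV1 : ∀ s ∈ S, ∀ v ∈ V1, s * v * s⁻¹ ∈ V1
  SHV : ∀ s ∈ S, s * e = e * s → ∀ v ∈ V, s * v * s⁻¹ * v⁻¹ ∈ V1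
  two : IsPGroup 2 S
  Sz : ∀ w ∈ W, w ≠ 1 → (∀ s ∈ S, s * w = w * s) → w = z
  odd : ¬ 2 ∣ (S ⊓ (centralizer (V1 : Set G) ⊓ J)).relIndex (centralizer (V1 : Set G) ⊓ J)

namespace Fv

section A

variable (F : Fv C J V V1 W Wc z e cl) [Finite M]
include F

theorem mem_cent {x : C} : (x : G) ∈ centralizer (V1 : Set G) ↔ (x : G) * e = e * x := by
  rw [mem_centralizer_iff]
  constructor
  · intro h
    exact (h e F.eV1).symm
  · intro h y hy
    have hz := F.zC x x.2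
    rcases (F.V1_iff y).1 hy with h1 | h1 | h1 | h1
    · subst h1; rw [one_mul, mul_one]
    · subst h1; exact hz.symm
    · subst h1; exact h.symm
    · subst h1
      rw [mul_assoc, ← hz, ← mul_assoc, ← h, mul_assoc]

/-- **case `κ ≠ 0`** -/
theorem lift_A (hz : z ∈ F.WP) {x : C} (hx : (x : G) ∈ J) {q : M} (hq : q ∈ F.W1)
    {ψ : Du M} (hψ : ψ ∈ Phi (J.subgroupOf C) q) (hψp : ψ (cl e) = 0) (hxq : ∀ m : M, x • m = m + ψ m • q) :
    ∃ x' : C, (x' : G) ∈ centralizer (V1 : Set G) ∧ (x' : G) ∈ J ∧ ∀ m ∈ F.W1, x' • m = m + ψ m • q := by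
  obtain ⟨u, hu, u', hu', c, hc, m, hm, hclu, hclu', h1⟩ := F.common hx hψ hψp hxq
  have key : ∀ y ∈ V1, cl y = cl e → ∃ a ∈ F.WP, a ∈ zpowers z ∧ y = e * a := by
    intro y hy h
    rcases (F.V1_ne hy (h ▸ F.ne)).2 with h2 | h2
    · exact ⟨1, one_mem _, one_mem _, by rw [h2, mul_one]⟩
    · exact ⟨z, hz, mem_zpowers z, h2⟩
  obtain ⟨a, ha, -, hua⟩ := key u hu hclu
  obtain ⟨b, hb, hbz, hub⟩ := key u' hu' hclu'
  have hf1 := F.fc_mem_WP hc (F.V1_le hu)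
  have hf2 := F.fc_mem_WP hc hm
  have hWP : ∀ w ∈ F.WP, w ∈ Wc := fun w hw => hw.1
  have hxb : (x : G) * b * (x : G)⁻¹ = b := by
    have hzx := F.zC x x.2
    have h2 : Commute (x : G) z := hzx
    obtain ⟨n, rfl⟩ := mem_zpowers_iff.1 hbz
    rw [(h2.zpow_right n).eq, mul_inv_cancel_right]
  -- `x e x⁻¹ = e w`
  have h2 : (x : G) * e * (x : G)⁻¹ = e * (fc c u * a * fc c m * b) := by
    have hbb := F.Wsq b (F.WcW (hWP b hb))
    have h3 : (x : G) * e * (x : G)⁻¹ = ((x : G) * u' * (x : G)⁻¹) * ((x : G) * b * (x : G)⁻¹) := by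
      rw [hub]
      have : (x : G) * (e * b) * (x : G)⁻¹ * ((x : G) * b * (x : G)⁻¹) = (x : G) * e * (b * b) * (x : G)⁻¹ := by
        group
      rw [this, hbb, mul_one]
    have h4 := F.Wcomm _ (F.WcW (F.fc_mem hc (F.V1_le hu))) e F.eW
    rw [h3, h1, hxb]
    generalize fc c u = f1 at h4 ⊢
    rw [hua, ← mul_assoc f1 e a, h4]
    group
  set w := fc c u * a * fc c m * b with hw
  have hwP : w ∈ F.WP := mul_mem (mul_mem (mul_mem hf1 ha) hf2) hb
  obtain ⟨q', hq', hq'0, φ, hφ, hφp⟩ := F.exists_at_p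
  obtain ⟨c1, hc1, hR⟩ := (F.mem_WP.1 hwP).2 q' hq' hq'0 φ hφ
  have h3 := hR e (F.V1_le F.eV1)
  rw [hφp, pw_one, fc] at h3
  have hce : (c1 : G) * e * (c1 : G)⁻¹ = e * w := by
    rw [← F.Wcomm w (F.WcW (hWP w hwP)) e F.eW, ← h3]; group
  refine ⟨c1⁻¹ * x, ?_, mul_mem (inv_mem hc1.1) hx, fun m hm => ?_⟩
  · rw [F.mem_cent, Subgroup.coe_mul, Subgroup.coe_inv]
    have h4 : ((c1 : G)⁻¹ * x) * e * ((c1 : G)⁻¹ * x)⁻¹ = e := by
      have h5 : ((c1 : G)⁻¹ * x) * e * ((c1 : G)⁻¹ * x)⁻¹ = (c1 : G)⁻¹ * ((x : G) * e * (x : G)⁻¹) * c1 := by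
        group
      rw [h5, h2, ← hce]; group
    exact mul_inv_eq_iff_eq_mul.1 h4
  · rw [mul_smul, hxq]
    have h5 : m + ψ m • q ∈ F.W1 := add_mem hm (Submodule.smul_mem _ _ hq)
    exact (inv_mem hc1 : c1⁻¹ ∈ F.KW).2 _ h5

end A

section S

variable (F : Fv C J V V1 W Wc z e cl) [Finite M] {S : Subgroup G} (Y : Sy S C J V V1 W z e)
include F Y

/-- `S` fixes `p` -/
theorem S_p {s : C} (hs : (s : G) ∈ S) : s • cl e = cl e := by
  have h1 := Y.SV1 s hs e F.eV1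
  have h2 := F.cl_smul s e F.eW
  rw [h2]
  refine (F.V1_ne h1 ?_).1
  rw [← h2]
  intro h
  have h3 : s⁻¹ • (s • cl e) = s⁻¹ • (0 : M) := by rw [h]
  rw [inv_smul_smul, smul_zero] at h3
  exact F.ne h3

theorem S_W1 {s : C} (hs : (s : G) ∈ S) {m : M} (hm : m ∈ F.W1) : s • m ∈ F.W1 :=
  F.cfg.comp_smul_self _ (F.S_p Y hs) hm

theorem S_M1 {s : C} (hs : (s : G) ∈ S) {m : G} (hm : m ∈ M1 J V1) : (s : G) * m * (s : G)⁻¹ ∈ M1 J V1 :=
  M1_conj (fun x hx => F.Jn s s.2 x hx) (fun u hu => Y.SV1 s hs u hu) hm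

theorem S_KW {s c : C} (hs : (s : G) ∈ S) (hc : c ∈ F.KW) : s * c * s⁻¹ ∈ F.KW := by
  refine ⟨F.Jn s s.2 c hc.1, fun m hm => ?_⟩
  rw [mul_smul, mul_smul, hc.2 _ (F.S_W1 Y (s := s⁻¹) (inv_mem hs) hm), smul_inv_smul]

/-- `S` normalises `WP` -/
theorem S_WP {s : C} (hs : (s : G) ∈ S) {w : G} (hw : w ∈ F.WP) : (s : G) * w * (s : G)⁻¹ ∈ F.WP := by
  have hwc := hw.1
  have hWc : (s : G) * w * (s : G)⁻¹ ∈ Wc := by
    rw [← F.cl_ker _ (F.Wn s s.2 w (F.WcW hwc)), ← F.cl_smul s w (F.WcW hwc),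
      (F.cl_ker w (F.WcW hwc)).2 hwc, smul_zero]
  have := F.cfg.nor
  refine ⟨hWc, fun q hq hq0 φ hφ => ?_⟩
  have h1 := Phi_smul s⁻¹ hφ
  have hq' : s⁻¹ • q ≠ 0 := fun h => hq0 (by
    have h3 : s • (s⁻¹ • q) = s • (0 : M) := by rw [h]
    rwa [smul_inv_smul, smul_zero] at h3)
  obtain ⟨c, hc, h2⟩ := hw.2 _ (F.S_W1 Y (s := s⁻¹) (inv_mem hs) hq) hq' _ h1
  refine ⟨s * c * s⁻¹, F.S_KW Y hs hc, fun m hm => ?_⟩
  have hm' : (s : G)⁻¹ * m * s ∈ M1 J V1 := by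
    have := F.S_M1 Y (s := s⁻¹) (inv_mem hs) hm
    rwa [Subgroup.coe_inv, inv_inv] at this
  have h3 := h2 _ hm'
  have h4 : cl ((s : G)⁻¹ * m * s) = s⁻¹ • cl m := by
    rw [F.cl_smul s⁻¹ m (F.M1_le hm), Subgroup.coe_inv, inv_inv]
  rw [h4, dua_apply, inv_inv, smul_inv_smul] at h3
  have h5 : fc (s * c * s⁻¹) m = (s : G) * fc c ((s : G)⁻¹ * m * s) * (s : G)⁻¹ := by
    rw [fc, fc]
    simp only [Subgroup.coe_mul, Subgroup.coe_inv]
    group
  rw [h5, h3]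
  rcases zmod_cases (φ (cl m)) with h6 | h6
  · rw [h6, pw_zero, pw_zero, mul_one, mul_inv_cancel]
  · rw [h6, pw_one, pw_one]

/-- `κ ≠ 0` ⟹ `z ∈ WP` -/
theorem z_mem_WP [Finite G] (h : ∃ c ∈ F.KW, ∃ m ∈ M1 J V1, fc c m ≠ 1) : z ∈ F.WP := by
  obtain ⟨c, hc, m, hm, h1⟩ := h
  have : Fact (Nat.Prime 2) := ⟨Nat.prime_two⟩
  have hWP : IsPGroup 2 F.WP := by
    intro w
    refine ⟨1, Subtype.ext ?_⟩
    have h2 := F.Wsq w (F.WcW w.2.1)
    change (w : G) ^ 2 ^ 1 = 1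
    rw [pow_one, pow_two, h2]
  have hne : F.WP ≠ ⊥ := by
    intro h2
    have h3 := F.fc_mem_WP hc hm
    rw [h2, mem_bot] at h3
    exact h1 h3
  have hn : S ≤ normalizer (F.WP : Set G) := by
    intro s hs
    rw [mem_normalizer_iff]
    intro w
    constructor
    · intro hw
      exact F.S_WP Y (s := ⟨s, Y.SC hs⟩) hs hw
    · intro hw
      have h2 := F.S_WP Y (s := ⟨s⁻¹, Y.SC (inv_mem hs)⟩) (inv_mem hs) hw
      change s⁻¹ * (s * w * s⁻¹) * s⁻¹⁻¹ ∈ F.WP at h2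
      have h3 : s⁻¹ * (s * w * s⁻¹) * s⁻¹⁻¹ = w := by group
      rwa [h3] at h2
  obtain ⟨w, hw, hw1, hw2⟩ := Classification.ZNEndA.exists_fixed hWP hne Y.two hn
  have h3 := Y.Sz w (F.WcW hw.1) hw1 hw2
  rwa [h3] at hw

/-- `S ∩ C(V1)` fixes the functionals of `V` -/
theorem S_phi {s : C} (hs : (s : G) ∈ S) (hse : (s : G) * e = e * s) {v : C} (hv : (v : G) ∈ V) {φ : Du M}
    (hφ : φ ∈ Phi (J.subgroupOf C) (cl e)) (h : ∀ m : M, v • m = m + φ m • cl e) : dua s φ = φ := by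
  have := F.cfg.nor
  have h1 := F.S_p Y hs
  have h2 := Phi_smul s hφ
  rw [h1] at h2
  have h3 : ∀ m : M, (s * v * s⁻¹) • m = m + dua s φ m • cl e := by
    intro m
    rw [mul_smul, mul_smul, h, smul_add, smul_inv_smul, smul_zmod, h1, dua_apply]
  have h4 := Y.SHV s hs hse v hv
  -- `s v s⁻¹ v⁻¹ ∈ V1` acts trivially
  have h5 : ∀ m : M, (s * v * s⁻¹ * v⁻¹) • m = m := by
    intro m
    obtain ⟨w, hw, rfl⟩ := F.exists_cl m
    rw [F.cl_smul _ w hw]
    congr 1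
    have h6 := F.Wcomm _ (F.V1W h4) w hw
    have h7 : ((s * v * s⁻¹ * v⁻¹ : C) : G) = s * v * (s : G)⁻¹ * (v : G)⁻¹ := rfl
    rw [h7, h6, mul_inv_cancel_right]
  ext m
  have h6 : (s * v * s⁻¹) • m = v • m := by
    have h7 := h5 (v • m)
    rwa [← mul_smul, inv_mul_cancel_right] at h7
  rw [h3, h] at h6
  have h7 := add_left_cancel h6
  have h8 : (dua s φ m - φ m) • cl e = 0 := by rw [sub_smul, h7, sub_self]
  by_contra h9
  have h10 : dua s φ m - φ m ≠ 0 := fun h0 => h9 (sub_eq_zero.mp h0)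
  rw [eq_one_of_ne h10, one_smul] at h8
  exact F.ne h8

end S

end Fv

end Cfsg.Agent.Omega.NO1.NatFive

end

section


/-!
# Theorem NAT of NO-1', step (5), part D: parity

`S ∩ C(V1) ∩ J` is a Sylow 2-subgroup of `L = C(V1) ∩ J` and centralises the functionals `φ₁, φ₂` of `V`.  If `L` induces
all transvections `(q, ψ)`, `ψ p = 0`, then `L_{φ₁}` is transitive on the even set `Phi p - {0, φ₁}`.
-/

set_option autoImplicit false
set_option linter.unusedSectionVars false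

namespace Cfsg.Agent.Omega.NO1.NatFive

open Subgroup Cfsg.Agent.Omega.Transv Cfsg.Agent.Omega.NO1.MiniMcL

universe u v

variable {G : Type u} [Group G]

variable {C J V V1 W Wc : Subgroup G} {z e : G} {M : Type v} [AddCommGroup M]
  [Module (ZMod 2) M] [DistribMulAction C M] {cl : G → M}

theorem even_ncard (A : Submodule (ZMod 2) (Du M)) [Finite M] {φ : Du M} (hφ : φ ∈ A) (h0 : φ ≠ 0) :
    2 ∣ ((A : Set (Du M)) \ {0, φ}).ncard := by
  have : Finite (Du M) := Finite.of_injective (fun φ : Du M => (φ : M → ZMod 2)) DFunLike.coe_injective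
  have h1 : 2 ∣ Nat.card A := by
    have h2 : addOrderOf (⟨φ, hφ⟩ : A) = 2 := by
      apply addOrderOf_eq_prime
      · apply Subtype.ext
        change (2 : ℕ) • φ = 0
        rw [two_nsmul]
        exact Transv.add_self φ
      · intro h
        exact h0 (congrArg Subtype.val h)
    have h3 := addOrderOf_dvd_natCard (⟨φ, hφ⟩ : A)
    rwa [h2] at h3
  have h2 : ({0, φ} : Set (Du M)) ⊆ A := by
    rintro x (rfl | rfl)
    · exact zero_mem A
    · exact hφ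
  have h3 : ({0, φ} : Set (Du M)).ncard = 2 := Set.ncard_pair (Ne.symm h0)
  have h4 : ((A : Set (Du M)) \ {0, φ}).ncard + ({0, φ} : Set (Du M)).ncard = (A : Set (Du M)).ncard :=
    Set.ncard_sdiff_add_ncard_of_subset h2
  have h5 : (A : Set (Du M)).ncard = Nat.card A := rfl
  omega

namespace Fv

variable (F : Fv C J V V1 W Wc z e cl) [Finite M] {S : Subgroup G} (Y : Sy S C J V V1 W z e)
include F Y

/-- **parity** -/
theorem parity [Finite G]
    (hL : ∀ q ∈ F.W1, q ≠ 0 → q ≠ cl e → ∀ ψ ∈ Phi (J.subgroupOf C) q, ψ (cl e) = 0 →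
      ∃ x' : C, (x' : G) ∈ centralizer (V1 : Set G) ∧ (x' : G) ∈ J ∧ ∀ m ∈ F.W1, x' • m = m + ψ m • q) :
    False := by
  let _ : DistribMulAction C (Du M) := dualAct C M
  have hp := self_mem_Pt C (cl e)
  have hnor := F.cfg.nor
  obtain ⟨a, ha, b, hb, ha1, hb1, hab1⟩ := F.four
  obtain ⟨φ₁, h1, h1'⟩ := F.exists_phi (v := ⟨a, F.VC ha⟩) ha
  obtain ⟨φ₂, h2, h2'⟩ := F.exists_phi (v := ⟨b, F.VC hb⟩) hb
  have n1 := F.phi_ne (v := ⟨a, F.VC ha⟩) ha ha1 h1'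
  have n2 := F.phi_ne (v := ⟨b, F.VC hb⟩) hb hb1 h2'
  have n12 : φ₂ ≠ φ₁ := by
    rintro rfl
    refine F.phi_ne (v := ⟨a * b, F.VC (mul_mem ha hb)⟩) (mul_mem ha hb) hab1 (φ := 0) (fun m => ?_) rfl
    have h8 : (⟨a * b, F.VC (mul_mem ha hb)⟩ : C) = ⟨a, F.VC ha⟩ * ⟨b, F.VC hb⟩ := rfl
    rw [h8, mul_smul, h2', h1', map_add, map_smul, h1.1, smul_zero, add_zero, LinearMap.zero_apply,
      zero_smul, add_zero, add_add_self]
  -- `L` fixes `p`
  have hLp : ∀ l : C, (l : G) ∈ centralizer (V1 : Set G) → l • cl e = cl e := by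
    intro l hl
    rw [F.cl_smul l e F.eW, F.mem_cent.1 hl, mul_inv_cancel_right]
  let L : Subgroup C := (centralizer (V1 : Set G) ⊓ J).subgroupOf C
  let L1 : Subgroup C := L ⊓ MulAction.stabilizer C φ₁
  let T : Subgroup C := (S ⊓ (centralizer (V1 : Set G) ⊓ J)).subgroupOf C
  have hKC : centralizer (V1 : Set G) ⊓ J ≤ C := inf_le_right.trans F.JC
  have hTL : T.relIndex L = (S ⊓ (centralizer (V1 : Set G) ⊓ J)).relIndex (centralizer (V1 : Set G) ⊓ J) :=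
    relIndex_subgroupOf hKC
  have hTf : ∀ s ∈ T, dua s φ₁ = φ₁ ∧ dua s φ₂ = φ₂ := by
    intro s hs
    have hsS : (s : G) ∈ S := hs.1
    have hse := F.mem_cent.1 (hs.2.1 : (s : G) ∈ centralizer (V1 : Set G))
    exact ⟨F.S_phi Y hsS hse (v := ⟨a, F.VC ha⟩) ha h1 h1', F.S_phi Y hsS hse (v := ⟨b, F.VC hb⟩) hb h2 h2'⟩
  have hT1 : T ≤ L1 := fun s hs => ⟨hs.2, (hTf s hs).1⟩
  have hLL : L1 ≤ L := inf_le_left
  -- the orbit
  have horb : MulAction.orbit L1 φ₂ = (Phi (J.subgroupOf C) (cl e) : Set (Du M)) \ {0, φ₁} := by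
    ext φ₃
    constructor
    · rintro ⟨l, rfl⟩
      change dua (l : C) φ₂ ∈ _
      have h3 := Phi_smul (l : C) h2
      rw [hLp _ l.2.1.1] at h3
      have h4 : dua (l : C) φ₁ = φ₁ := l.2.2
      refine ⟨h3, ?_⟩
      rintro (h5 | h5)
      · have h6 : dua (l : C) φ₂ = dua (l : C) 0 := by
          rw [h5]; rfl
        exact n2 (dua_injective _ h6)
      · have h6 : dua (l : C) φ₂ = dua (l : C) φ₁ := by
          rw [h4]; exact h5
        exact n12 (dua_injective _ h6)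
    · rintro ⟨h3, h4⟩
      rw [Set.mem_insert_iff, Set.mem_singleton_iff, not_or] at h4
      obtain ⟨q, hq, hq0, hqp, h5, h6, h7, h8⟩ := F.cfg.exists_move hp h1 h2 h3 n2 h4.1 n12 h4.2
      have hψp : (φ₂ + φ₃) (cl e) = 0 := by
        rw [LinearMap.add_apply, h2.1, h3.1, add_zero]
      obtain ⟨x, hx1, hx2, hx3⟩ := hL q hq hq0 hqp _ h5 hψp
      have key : ∀ φ ∈ Phi (J.subgroupOf C) (cl e), dua x φ = φ + φ q • (φ₂ + φ₃) := by
        intro φ hφ
        have h9 := Phi_smul x hφ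
        rw [hLp x hx1] at h9
        refine F.cfg.Phi_ext hp h9 (add_mem hφ (Submodule.smul_mem _ _ (add_mem h2 h3))) fun m hm => ?_
        have h10 : x⁻¹ • m = m + (φ₂ + φ₃) m • q := by
          have hm' : m + (φ₂ + φ₃) m • q ∈ F.W1 := add_mem hm (Submodule.smul_mem _ _ hq)
          rw [inv_smul_eq_iff, hx3 _ hm', map_add, map_smul, h5.1, smul_zero, add_zero, add_add_self]
        rw [dua_apply, h10, map_add, map_smul, LinearMap.add_apply φ, LinearMap.smul_apply, smul_eq_mul,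
          smul_eq_mul, mul_comm]
      have hx4 : dua x φ₁ = φ₁ := by rw [key _ h1, h6, zero_smul, add_zero]
      refine ⟨⟨x, ⟨⟨hx1, hx2⟩, hx4⟩⟩, ?_⟩
      change dua x φ₂ = φ₃
      rw [key _ h2, h7, one_smul, ← add_assoc, Transv.add_self, zero_add]
  have h3 : (MulAction.stabilizer L1 φ₂).index = ((Phi (J.subgroupOf C) (cl e) : Set (Du M)) \ {0, φ₁}).ncard := by
    rw [MulAction.index_stabilizer, horb]
  have h4 := even_ncard _ h1 n1
  rw [← h3] at h4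
  have h5 : T.subgroupOf L1 ≤ MulAction.stabilizer L1 φ₂ := fun s hs => (hTf (s : C) hs).2
  have h6 : (MulAction.stabilizer L1 φ₂).index ∣ T.relIndex L1 := index_dvd_of_le h5
  have h7 := relIndex_mul_relIndex T L1 L hT1 hLL
  apply Y.odd
  rw [← hTL, ← h7]
  exact (h4.trans h6).trans (Dvd.intro _ rfl)

end Fv

end Cfsg.Agent.Omega.NO1.NatFive

end

section


/-!
# Theorem NAT of NO-1', step (5), part E: `κ = 0`

`J ∩ C(W1)` centralises `M1`.  Then `N_C(p) ≤ N(V1)`, `M1` is the union of the conjugates `V1^x`, `x ∈ J`, `M1 ∩ Wc = ⟨z⟩`.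
-/

set_option autoImplicit false
set_option linter.unusedSectionVars false

namespace Cfsg.Agent.Omega.NO1.NatFive

open Subgroup Cfsg.Agent.Omega.Transv Cfsg.Agent.Omega.NO1.MiniMcL

universe u v

variable {G : Type u} [Group G]

variable {C J V V1 W Wc : Subgroup G} {z e : G} {M : Type v} [AddCommGroup M]
  [Module (ZMod 2) M] [DistribMulAction C M] {cl : G → M}

namespace Fv

/-- `κ = 0` -/
def Kz (F : Fv C J V V1 W Wc z e cl) [Finite M] : Prop := ∀ c ∈ F.KW, ∀ m ∈ M1 J V1, fc c m = 1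

variable (F : Fv C J V V1 W Wc z e cl) [Finite M] (hB : F.Kz)
include F

theorem act_add {x : C} {q : M} {ψ : Du M} (hψ : ψ q = 0) (hxq : ∀ m : M, x • m = m + ψ m • q) (m : M) :
    x⁻¹ • m = m + ψ m • q := by
  rw [inv_smul_eq_iff, hxq, map_add, map_smul, hψ, smul_zero, add_zero, add_add_self]

/-- `v w v⁻¹ w⁻¹` is a homomorphism on `W` -/
theorem fc_mul_W (v : C) {w w' : G} (hw : w ∈ W) (hw' : w' ∈ W) : fc v (w * w') = fc v w * fc v w' := by
  have h2 := F.Wn v v.2 w' hw'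
  have h3 : fc v w' ∈ W := mul_mem h2 (inv_mem hw')
  have h4 := F.Wcomm _ (inv_mem hw) _ h3
  have e1 : fc v (w * w') = ((v : G) * w * (v : G)⁻¹) * (fc v w' * w⁻¹) := by
    rw [fc, fc]; group
  rw [e1, ← h4, ← mul_assoc]
  rfl

theorem cl_fc (v : C) {w : G} (hw : w ∈ W) : cl (fc v w) = v • cl w + cl w := by
  rw [fc, F.cl_mul _ (F.Wn v v.2 w hw) _ (inv_mem hw), F.cl_inv hw, F.cl_smul v w hw]

include hB

theorem Kz.comm {c : C} (hc : c ∈ F.KW) {m : G} (hm : m ∈ M1 J V1) : (c : G) * m * (c : G)⁻¹ = m := by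
  have h := hB c hc m hm
  rw [fc] at h
  exact mul_inv_eq_one.1 h

/-- (E1) -/
theorem norm_of_act {x : C} (hx : (x : G) ∈ J) {q : M} {ψ : Du M} (hψ : ψ ∈ Phi (J.subgroupOf C) q)
    (hψp : ψ (cl e) = 0) (hxq : ∀ m : M, x • m = m + ψ m • q) {y : G} (hy : y ∈ V1) :
    (x : G) * y * (x : G)⁻¹ ∈ V1 := by
  obtain ⟨u, hu, u', hu', c, hc, m, hm, -, hclu', h1⟩ := F.common hx hψ hψp hxq
  rw [hB c hc u (F.V1_le hu), hB c hc m hm, one_mul, mul_one] at h1
  have hz : (x : G) * z * (x : G)⁻¹ = z := by rw [F.zC x x.2, mul_inv_cancel_right]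
  have he : (x : G) * e * (x : G)⁻¹ ∈ V1 := by
    rcases (F.V1_ne hu' (hclu' ▸ F.ne)).2 with h2 | h2
    · rw [h2] at h1
      rwa [h1]
    · rw [h2] at h1
      have h3 : (x : G) * e * (x : G)⁻¹ = ((x : G) * (e * z) * (x : G)⁻¹) * ((x : G) * z * (x : G)⁻¹)⁻¹ := by
        group
      rw [h3, h1, hz]
      exact mul_mem hu (inv_mem F.zV1)
  rcases (F.V1_iff y).1 hy with h | h | h | h
  · rw [h, mul_one, mul_inv_cancel]; exact one_mem _
  · rw [h, hz]; exact F.zV1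
  · rw [h]; exact he
  · have h3 : (x : G) * (e * z) * (x : G)⁻¹ = ((x : G) * e * (x : G)⁻¹) * ((x : G) * z * (x : G)⁻¹) := by group
    rw [h, h3, hz]
    exact mul_mem he F.zV1

/-- (E2) : `[M1, v] = V1` -/
theorem M1_surj {v : C} (hv : (v : G) ∈ V) (hv1 : (v : G) ∉ V1) {y : G} (hy : y ∈ V1) :
    ∃ m ∈ M1 J V1, fc v m = y := by
  let B : Subgroup G :=
    { carrier := {w | w ∈ W ∧ ∃ m ∈ M1 J V1, fc v m = fc v w}
      one_mem' := ⟨one_mem _, 1, one_mem _, rfl⟩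
      mul_mem' := by
        rintro a b ⟨ha, m, hm, h1⟩ ⟨hb, m', hm', h2⟩
        refine ⟨mul_mem ha hb, m * m', mul_mem hm hm', ?_⟩
        rw [F.fc_mul_W v (F.M1_le hm) (F.M1_le hm'), F.fc_mul_W v ha hb, h1, h2]
      inv_mem' := by
        rintro a ⟨ha, m, hm, h1⟩
        refine ⟨inv_mem ha, m, hm, ?_⟩
        rw [inv_eq_of_mul_eq_one_left (F.Wsq a ha), h1] }
  have hp := self_mem_Pt C (cl e)
  obtain ⟨φ, hφ, hφv⟩ := F.exists_phi hv
  have key : W ≤ B := by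
    refine F.Wgen B fun c hc u hu => ?_
    have huW := F.V1W hu
    have hcu := F.Wn c hc u huW
    refine ⟨hcu, ?_⟩
    have hcl := F.cl_smul ⟨c, hc⟩ u huW
    by_cases h1 : (⟨c, hc⟩ : C) • cl u ∈ F.W1
    · -- `c u c⁻¹ = m w₀`
      obtain ⟨m, hm, h2⟩ := F.exists_M1 h1
      refine ⟨m, hm, ?_⟩
      have hmW := F.M1_le hm
      have h3 : m * (c * u * c⁻¹) ∈ Wc := by
        rw [← F.cl_ker _ (mul_mem hmW hcu), F.cl_mul _ hmW _ hcu, h2, hcl]
        exact Transv.add_self _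
      have h4 := F.fc_mul_W v hmW hcu
      rw [F.fc_Wc (F.VJ hv) h3] at h4
      have h5 : fc v (c * u * c⁻¹) * fc v (c * u * c⁻¹) = 1 := by
        refine F.Wsq _ (mul_mem (F.Wn v v.2 _ hcu) (inv_mem hcu))
      exact mul_right_cancel (h4.symm.trans h5.symm)
    · -- `v` centralises `c u c⁻¹`
      have hp' : cl u = cl e := by
        rcases F.V1_cases hu with h2 | h2
        · rw [h2.1, smul_zero] at h1
          exact absurd (zero_mem _) h1
        · exact h2.1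
      refine ⟨1, one_mem _, ?_⟩
      have hcC : (⟨c, hc⟩ : C) • cl e ∈ Pt C (cl e) := ⟨_, rfl⟩
      -- `c⁻¹ v c` is trivial on `W1`
      have hk : (⟨c, hc⟩ : C)⁻¹ * v * ⟨c, hc⟩ ∈ F.KW := by
        refine ⟨?_, fun m hm => ?_⟩
        · have := F.Jn c⁻¹ (inv_mem hc) v (F.VJ hv)
          rwa [inv_inv] at this
        · rw [mul_smul, mul_smul, inv_smul_eq_iff, hφv]
          have h3 : φ ((⟨c, hc⟩ : C) • m) = 0 := by
            by_cases h0 : m = 0
            · rw [h0, smul_zero, map_zero]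
            have h4 := F.cfg.comp_smul hp ⟨c, hc⟩ hm
            have hm0 : (⟨c, hc⟩ : C) • m ≠ 0 := fun h => h0 (by
              have h5 : (⟨c, hc⟩ : C)⁻¹ • ((⟨c, hc⟩ : C) • m) = (⟨c, hc⟩ : C)⁻¹ • (0 : M) := by rw [h]
              rwa [inv_smul_smul, smul_zero] at h5)
            have h5 := F.cfg.comp_pts hcC h4 hm0
            refine F.cfg.Phi_off hp h5 (fun h6 => h1 ?_) hφ
            have h7 := F.cfg.comp_eq hcC h5 h4
            have h8 := F.cfg.comp_eq hp h5 h6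
            have h9 := F.cfg.self_mem_comp hcC
            rw [← h7, h8] at h9
            rw [hp']
            exact h9
          rw [h3, zero_smul, add_zero]
      have h2 := Kz.comm F hB hk (F.V1_le hu)
      have h3 : fc v (c * u * c⁻¹) = c * ((((⟨c, hc⟩ : C)⁻¹ * v * ⟨c, hc⟩ : C) : G) * u *
          (((⟨c, hc⟩ : C)⁻¹ * v * ⟨c, hc⟩ : C) : G)⁻¹ * u⁻¹) * c⁻¹ := by
        rw [fc]
        simp only [Subgroup.coe_mul, Subgroup.coe_inv]
        group
      rw [h3, h2, mul_inv_cancel, mul_one, mul_inv_cancel, fc]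
      group
  obtain ⟨w, hw, h1⟩ := F.comm_surj v hv hv1 y hy
  obtain ⟨-, m, hm, h2⟩ := key hw
  exact ⟨m, hm, by rw [h2]; exact h1⟩

/-- (E3) : the transvection `(p, φ)` is induced by a conjugate of an element of `V` -/
theorem exists_tv {φ : Du M} (hφ : φ ∈ Phi (J.subgroupOf C) (cl e)) (h0 : φ ≠ 0) :
    ∃ y : C, (y : G) ∈ J ∧ ∃ a : C, (a : G) ∈ V ∧ (∀ m : M, (y * a * y⁻¹) • m = m + φ m • cl e) ∧
      ∀ m ∈ M1 J V1, fc (y * a * y⁻¹) m ∈ V1 := by
  have hp := self_mem_Pt C (cl e)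
  obtain ⟨a, ha, ha1, φa, hφa, hact, -, hφa0⟩ := F.exists_v 0
  by_cases h1 : φ = φa
  · subst h1
    refine ⟨1, one_mem _, a, ha, fun m => by rw [one_mul, inv_one, mul_one, hact], fun m hm => ?_⟩
    rw [one_mul, inv_one, mul_one]
    exact F.comm_mem a ha m (F.M1_le hm)
  obtain ⟨q, hq, h2, h3⟩ := exists_one_one (F.Phi_nz F.p_mem F.ne hφa hφa0) (F.Phi_nz F.p_mem F.ne hφ h0)
  have hq0 : q ≠ 0 := fun h => by rw [h, map_zero] at h2; exact one_ne h2.symm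
  have hqP := F.cfg.comp_pts hp hq hq0
  have h4 : φa + φ ∈ Per (J.subgroupOf C) (cl e) q :=
    ⟨add_mem hφa hφ, by rw [LinearMap.add_apply, h2, h3, one_add_one]⟩
  have h4p : (φa + φ) (cl e) = 0 := h4.1.1
  rw [F.cfg.per_comm hp hqP ⟨φa, hφa, h2⟩] at h4
  obtain ⟨h5, y, hy, hyq⟩ := F.mem_Phi h4.1
  have hyp : y • cl e = cl e := by rw [hyq, h4p, zero_smul, add_zero]
  refine ⟨y, hy, a, ha, fun m => ?_, fun m hm => ?_⟩
  · rw [mul_smul, mul_smul, hact, smul_add, smul_inv_smul, smul_zmod, hyp, ← dua_apply,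
      dua_of_act h5 hyq, h2, one_smul, ← add_assoc, Transv.add_self, zero_add]
  · have hm' : (y : G)⁻¹ * m * y ∈ M1 J V1 := by
      have := M1_conj_J (V1 := V1) (inv_mem hy) hm
      rwa [inv_inv] at this
    have h6 := F.norm_of_act hB hy h4.1 h4p hyq (F.comm_mem a ha _ (F.M1_le hm'))
    have h7 : fc (y * a * y⁻¹) m = (y : G) * (a * ((y : G)⁻¹ * m * y) * (a : G)⁻¹ * ((y : G)⁻¹ * m * y)⁻¹) *
        (y : G)⁻¹ := by
      rw [fc]
      simp only [Subgroup.coe_mul, Subgroup.coe_inv]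
      group
    rw [h7]
    exact h6

/-- (E4) : `N_C(p) ≤ N(V1)` -/
theorem norm_of_fix {c : C} (hc : c • cl e = cl e) {y : G} (hy : y ∈ V1) : (c : G) * y * (c : G)⁻¹ ∈ V1 := by
  have hnor := F.cfg.nor
  obtain ⟨a, ha, ha1, φa, hφa, hact, -, hφa0⟩ := F.exists_v 0
  have h1 := Phi_smul c hφa
  rw [hc] at h1
  have h2 : dua c φa ≠ 0 := fun h => hφa0 (dua_injective c (by rw [h]; rfl))
  obtain ⟨k, hk, b, hb, h3, h4⟩ := F.exists_tv hB h1 h2
  have hkb : ((k * b * k⁻¹ : C) : G) ∈ J := mul_mem (mul_mem hk (F.VJ hb)) (inv_mem hk)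
  have h5 : ∀ m : M, (c * a * c⁻¹) • m = m + dua c φa m • cl e := by
    intro m
    rw [mul_smul, mul_smul, hact, smul_add, smul_inv_smul, smul_zmod, hc, dua_apply]
  have hv2 : ((c * a * c⁻¹ : C) : G) ∈ J := F.Jn c c.2 a (F.VJ ha)
  have h6 : (c * a * c⁻¹) * (k * b * k⁻¹)⁻¹ ∈ F.KW := by
    refine ⟨mul_mem hv2 (inv_mem hkb), fun m _ => ?_⟩
    rw [mul_smul, F.act_add (q := cl e) (ψ := dua c φa) h1.1 h3, h5, map_add, map_smul, h1.1, smul_zero,
      add_zero, add_add_self]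
  obtain ⟨m, hm, rfl⟩ := F.M1_surj hB ha ha1 hy
  have hmW := F.Wn c c.2 m (F.M1_le hm)
  have h7 : c • cl m ∈ F.W1 := F.cfg.comp_smul_self _ hc (F.cl_M1 hm)
  obtain ⟨m1, hm1, h8⟩ := F.exists_M1 h7
  have hm1W := F.M1_le hm1
  have h9 : m1 * ((c : G) * m * (c : G)⁻¹) ∈ Wc := by
    rw [← F.cl_ker _ (mul_mem hm1W hmW), F.cl_mul _ hm1W _ hmW, h8, F.cl_smul c m (F.M1_le hm)]
    exact Transv.add_self _
  have h10 := F.fc_mul_W (c * a * c⁻¹) hm1W hmW
  rw [F.fc_Wc hv2 h9] at h10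
  have h11 : fc (c * a * c⁻¹) ((c : G) * m * (c : G)⁻¹) * fc (c * a * c⁻¹) ((c : G) * m * (c : G)⁻¹) = 1 :=
    F.Wsq _ (mul_mem (F.Wn _ (c * a * c⁻¹ : C).2 _ hmW) (inv_mem hmW))
  have h12 : fc (c * a * c⁻¹) m1 = fc (c * a * c⁻¹) ((c : G) * m * (c : G)⁻¹) :=
    mul_right_cancel (h10.symm.trans h11.symm)
  have h13 : fc (c * a * c⁻¹) ((c : G) * m * (c : G)⁻¹) = (c : G) * fc a m * (c : G)⁻¹ := by
    rw [fc, fc]
    simp only [Subgroup.coe_mul, Subgroup.coe_inv]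
    group
  rw [← h13, ← h12]
  -- `c a c⁻¹ = k₁ (k b k⁻¹)`
  have h14 := Kz.comm F hB h6 (M1_conj_J (V1 := V1) hkb hm1)
  have h15 : fc (c * a * c⁻¹) m1 = fc (k * b * k⁻¹) m1 := by
    have h16 : ((c * a * c⁻¹ * (k * b * k⁻¹)⁻¹ : C) : G) * (((k * b * k⁻¹ : C) : G) * m1 *
        ((k * b * k⁻¹ : C) : G)⁻¹) * ((c * a * c⁻¹ * (k * b * k⁻¹)⁻¹ : C) : G)⁻¹ =
        ((c * a * c⁻¹ : C) : G) * m1 * ((c * a * c⁻¹ : C) : G)⁻¹ := by
      rw [Subgroup.coe_mul (H := C) (c * a * c⁻¹) (k * b * k⁻¹)⁻¹, Subgroup.coe_inv C (k * b * k⁻¹)]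
      group
    rw [h16] at h14
    rw [fc, fc, h14]
  rw [h15]
  exact h4 m1 hm1

/-- (E5) : `M1` is the union of the conjugates of `V1` -/
theorem M1_union {m : G} (hm : m ∈ M1 J V1) : ∃ x : C, (x : G) ∈ J ∧ ∃ y ∈ V1, m = x * y * (x : G)⁻¹ := by
  have hnor := F.cfg.nor
  have hp := self_mem_Pt C (cl e)
  have hcent : ∀ x : C, ∀ y ∈ V1, cl y = 0 → (x : G) * y * (x : G)⁻¹ = y := by
    intro x y hy h
    rcases F.V1_zero hy h with h1 | h1
    · rw [h1]; group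
    · rw [h1, F.zC x x.2, mul_inv_cancel_right]
  have hz0 : ∀ (x : C), ∀ y ∈ V1, cl ((x : G) * y * (x : G)⁻¹) = 0 → cl y = 0 := by
    intro x y hy h
    rw [← F.cl_smul x y (F.V1W hy)] at h
    have h1 : x⁻¹ • (x • cl y) = x⁻¹ • (0 : M) := by rw [h]
    rwa [inv_smul_smul, smul_zero] at h1
  rw [M1] at hm
  induction hm using closure_induction with
  | mem y hy =>
    obtain ⟨x, hx, u, hu, rfl⟩ := hy
    exact ⟨⟨x, F.JC hx⟩, hx, u, hu, rfl⟩
  | one => exact ⟨1, one_mem _, 1, one_mem _, by simp⟩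
  | inv a ha h1 =>
    obtain ⟨x, hx, y, hy, rfl⟩ := h1
    exact ⟨x, hx, y⁻¹, inv_mem hy, by group⟩
  | mul a b ha hb h1 h2 =>
    obtain ⟨x, hx, y, hy, rfl⟩ := h1
    obtain ⟨x', hx', y', hy', rfl⟩ := h2
    have hyW := F.V1W hy
    have hyW' := F.V1W hy'
    have haW := F.Wn x x.2 y hyW
    have hbW := F.Wn x' x'.2 y' hyW'
    by_cases ha0 : cl ((x : G) * y * (x : G)⁻¹) = 0
    · have h3 := hz0 x y hy ha0
      refine ⟨x', hx', y * y', mul_mem hy hy', ?_⟩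
      rw [hcent x y hy h3]
      have h4 := hcent x' y hy h3
      calc y * ((x' : G) * y' * (x' : G)⁻¹) = ((x' : G) * y * (x' : G)⁻¹) * ((x' : G) * y' * (x' : G)⁻¹) := by
            rw [h4]
        _ = _ := by group
    by_cases hb0 : cl ((x' : G) * y' * (x' : G)⁻¹) = 0
    · have h3 := hz0 x' y' hy' hb0
      refine ⟨x, hx, y * y', mul_mem hy hy', ?_⟩
      rw [hcent x' y' hy' h3]
      have h4 := hcent x y' hy' h3
      calc (x : G) * y * (x : G)⁻¹ * y' = (x : G) * y * (x : G)⁻¹ * ((x : G) * y' * (x : G)⁻¹) := by rw [h4]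
        _ = _ := by group
    have hyp : cl y = cl e := (F.V1_ne hy fun h => ha0 (by
      rw [← F.cl_smul x y hyW, h, smul_zero])).1
    have hyp' : cl y' = cl e := (F.V1_ne hy' fun h => hb0 (by
      rw [← F.cl_smul x' y' hyW', h, smul_zero])).1
    have hca : cl ((x : G) * y * (x : G)⁻¹) = x • cl e := by rw [← F.cl_smul x y hyW, hyp]
    have hcb : cl ((x' : G) * y' * (x' : G)⁻¹) = x' • cl e := by rw [← F.cl_smul x' y' hyW', hyp']
    by_cases hab : cl ((x : G) * y * (x : G)⁻¹) = cl ((x' : G) * y' * (x' : G)⁻¹)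
    · -- the same conjugate
      rw [hca, hcb] at hab
      have h3 : (x'⁻¹ * x) • cl e = cl e := by rw [mul_smul, hab, inv_smul_smul]
      have h4 := F.norm_of_fix hB h3 hy
      refine ⟨x', hx', _, mul_mem h4 hy', ?_⟩
      simp only [Subgroup.coe_mul, Subgroup.coe_inv]
      group
    · -- different conjugates
      have haM : (x : G) * y * (x : G)⁻¹ ∈ M1 J V1 := subset_closure ⟨x, hx, y, hy, rfl⟩
      have hq := F.cl_M1 haM
      have hr : x' • cl e ∈ F.W1 := F.J_W1 hx' F.p_mem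
      have hrP : x' • cl e ∈ Pt C (cl e) := ⟨x', rfl⟩
      rw [hcb] at hab hb0
      have hq' : cl ((x : G) * y * (x : G)⁻¹) ∈ F.cfg.comp hrP := by
        rw [F.cfg.comp_eq hp hrP hr]
        exact hq
      obtain ⟨φ, hφ, hφq⟩ := F.cfg.Phi_sep hrP hq' ha0 hab
      have h3 := Phi_smul x'⁻¹ hφ
      rw [inv_smul_smul] at h3
      have hφ0 : dua x'⁻¹ φ ≠ 0 := by
        intro h
        have h4 : φ = 0 := dua_injective x'⁻¹ (by rw [h]; rfl)
        rw [h4] at hφq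
        exact one_ne hφq.symm
      obtain ⟨k, hk, b, hbV, h4, h5⟩ := F.exists_tv hB h3 hφ0
      set v1 : C := k * b * k⁻¹ with hv1
      have hv1J : (v1 : G) ∈ J := mul_mem (mul_mem hk (F.VJ hbV)) (inv_mem hk)
      -- `v' = x' v₁ x'⁻¹`
      have hm' : (x' : G)⁻¹ * ((x : G) * y * (x : G)⁻¹) * x' ∈ M1 J V1 := by
        have := M1_conj_J (V1 := V1) (inv_mem hx') haM
        rwa [inv_inv] at this
      have h6 := h5 _ hm'
      have hclm' : cl ((x' : G)⁻¹ * ((x : G) * y * (x : G)⁻¹) * x') = x'⁻¹ • cl ((x : G) * y * (x : G)⁻¹) := by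
        rw [F.cl_smul x'⁻¹ _ haW, Subgroup.coe_inv, inv_inv]
      have h7 : cl (fc v1 ((x' : G)⁻¹ * ((x : G) * y * (x : G)⁻¹) * x')) = cl e := by
        rw [F.cl_fc v1 (F.M1_le hm'), h4, hclm', dua_apply, inv_inv, smul_inv_smul, hφq, one_smul,
          add_comm _ (cl e), add_add_self]
      have h8 := (F.V1_ne h6 (h7 ▸ F.ne)).2
      have h9 := (F.V1_ne hy' (hyp' ▸ F.ne)).2
      -- `g = b t`, `t ∈ {1, z}`
      obtain ⟨t, ht, htz, h10⟩ : ∃ t ∈ V1, (t = 1 ∨ t = z) ∧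
          fc v1 ((x' : G)⁻¹ * ((x : G) * y * (x : G)⁻¹) * x') = y' * t := by
        rcases h8 with h8 | h8 <;> rcases h9 with h9 | h9
        · exact ⟨1, one_mem _, Or.inl rfl, by rw [h8, h9, mul_one]⟩
        · exact ⟨z, F.zV1, Or.inr rfl, by rw [h8, h9, mul_assoc, F.zsq, mul_one]⟩
        · exact ⟨z, F.zV1, Or.inr rfl, by rw [h8, h9]⟩
        · exact ⟨1, one_mem _, Or.inl rfl, by rw [h8, h9, mul_one]⟩
      have htC : ∀ c : C, (c : G) * t = t * c := by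
        intro c
        rcases htz with h | h
        · rw [h, mul_one, one_mul]
        · rw [h]; exact F.zC c c.2
      have htt : t * t = 1 := F.Wsq t (F.V1W ht)
      refine ⟨x' * v1 * x'⁻¹ * x, mul_mem (mul_mem (mul_mem hx' hv1J) (inv_mem hx')) hx, y * t,
        mul_mem hy ht, ?_⟩
      -- `x' fc x'⁻¹ a = (x' v₁ x'⁻¹) a (x' v₁ x'⁻¹)⁻¹`
      have h11 : (x' : G) * fc v1 ((x' : G)⁻¹ * ((x : G) * y * (x : G)⁻¹) * x') * (x' : G)⁻¹ *
          ((x : G) * y * (x : G)⁻¹) = ((x' * v1 * x'⁻¹ * x : C) : G) * y * ((x' * v1 * x'⁻¹ * x : C) : G)⁻¹ := by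
        rw [fc]
        simp only [Subgroup.coe_mul, Subgroup.coe_inv]
        group
      rw [h10] at h11
      have h12 : ((x' * v1 * x'⁻¹ * x : C) : G) * (y * t) * ((x' * v1 * x'⁻¹ * x : C) : G)⁻¹ =
          ((x' * v1 * x'⁻¹ * x : C) : G) * y * ((x' * v1 * x'⁻¹ * x : C) : G)⁻¹ * t := by
        have h13 := htC (x' * v1 * x'⁻¹ * x)⁻¹
        rw [Subgroup.coe_inv] at h13
        rw [mul_assoc, mul_assoc y t, ← h13]
        group
      rw [h12, ← h11]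
      have h14 := htC x'⁻¹
      rw [Subgroup.coe_inv] at h14
      have h15 := htC x
      have h16 := htC x⁻¹
      rw [Subgroup.coe_inv] at h16
      have h17 := F.Wcomm y hyW t (F.V1W ht)
      have h18 : (x' : G) * (y' * t) * (x' : G)⁻¹ * ((x : G) * y * (x : G)⁻¹) * t =
          ((x' : G) * y' * (x' : G)⁻¹) * ((x : G) * y * (x : G)⁻¹) := by
        have h19 : t * ((x : G) * y * (x : G)⁻¹) = ((x : G) * y * (x : G)⁻¹) * t := F.Wcomm t (F.V1W ht) _ haW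
        calc (x' : G) * (y' * t) * (x' : G)⁻¹ * ((x : G) * y * (x : G)⁻¹) * t
            = (x' : G) * y' * (t * (x' : G)⁻¹) * ((x : G) * y * (x : G)⁻¹) * t := by group
          _ = (x' : G) * y' * (x' : G)⁻¹ * (t * ((x : G) * y * (x : G)⁻¹)) * t := by rw [← h14]; group
          _ = (x' : G) * y' * (x' : G)⁻¹ * ((x : G) * y * (x : G)⁻¹) * (t * t) := by rw [h19]; group
          _ = _ := by rw [htt, mul_one]
      rw [h18]
      exact F.Wcomm _ haW _ hbW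

/-- (E6) : `M1 ∩ Wc = ⟨z⟩` -/
theorem M1_ker {m : G} (hm : m ∈ M1 J V1) (h : cl m = 0) : m = 1 ∨ m = z := by
  obtain ⟨x, -, y, hy, rfl⟩ := F.M1_union hB hm
  rw [← F.cl_smul x y (F.V1W hy)] at h
  have h1 : x⁻¹ • (x • cl y) = x⁻¹ • (0 : M) := by rw [h]
  rw [inv_smul_smul, smul_zero] at h1
  rcases F.V1_zero hy h1 with h2 | h2
  · left; rw [h2]; group
  · right; rw [h2, F.zC x x.2, mul_inv_cancel_right]

end Fv

end Cfsg.Agent.Omega.NO1.NatFive

end

section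


/-!
# Theorem NAT of NO-1', step (5), part F: `dim W1 = 3`, `|M1| = 16`
-/

set_option autoImplicit false
set_option linter.unusedSectionVars false

namespace Cfsg.Agent.Omega.NO1.NatFive

open Subgroup Cfsg.Agent.Omega.Transv Cfsg.Agent.Omega.NO1.MiniMcL

universe u v

variable {G : Type u} [Group G]

variable {C J V V1 W Wc : Subgroup G} {z e : G} {M : Type v} [AddCommGroup M]
  [Module (ZMod 2) M] [DistribMulAction C M] {cl : G → M}

namespace Fv

section A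

variable (F : Fv C J V V1 W Wc z e cl) [Finite M]
include F

/-- `dim W1 ≥ 3` -/
theorem three_le : 3 ≤ Module.finrank (ZMod 2) F.W1 := by
  have hp := self_mem_Pt C (cl e)
  obtain ⟨φ, hφ, ψ, hψ, h1, h2, h3⟩ := F.cfg.two (cl e) hp
  obtain ⟨r, hr, h4, h5⟩ := exists_one_one (F.Phi_nz F.p_mem F.ne hφ h1) (F.Phi_nz F.p_mem F.ne hψ h2)
  obtain ⟨s, hs, h6⟩ : ∃ s ∈ F.W1, φ s ≠ ψ s := by
    by_contra hcon
    push Not at hcon
    exact h3 (F.cfg.Phi_ext hp hφ hψ hcon)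
  let f : F.W1 →ₗ[ZMod 2] ZMod 2 × ZMod 2 := (φ.comp F.W1.subtype).prod (ψ.comp F.W1.subtype)
  have hf : ∀ m : F.W1, f m = (φ m, ψ m) := fun m => rfl
  have hsurj : Function.Surjective f := by
    have key : ∃ a b : F.W1, f a = (1, 0) ∧ f b = (0, 1) := by
      rcases zmod_cases (φ s) with h7 | h7 <;> rcases zmod_cases (ψ s) with h8 | h8
      · exact absurd (h7.trans h8.symm) h6
      · refine ⟨⟨r + s, add_mem hr hs⟩, ⟨s, hs⟩, ?_, ?_⟩
        · rw [hf]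
          change (φ (r + s), ψ (r + s)) = _
          rw [map_add, map_add, h4, h5, h7, h8, add_zero, one_add_one]
        · rw [hf]
          change (φ s, ψ s) = _
          rw [h7, h8]
      · refine ⟨⟨s, hs⟩, ⟨r + s, add_mem hr hs⟩, ?_, ?_⟩
        · rw [hf]
          change (φ s, ψ s) = _
          rw [h7, h8]
        · rw [hf]
          change (φ (r + s), ψ (r + s)) = _
          rw [map_add, map_add, h4, h5, h7, h8, add_zero, one_add_one]
      · exact absurd (h7.trans h8.symm) h6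
    obtain ⟨a, b, ha, hb⟩ := key
    rintro ⟨x, y⟩
    refine ⟨x • a + y • b, ?_⟩
    rw [map_add, map_smul, map_smul, ha, hb]
    ext <;> simp
  have : Module.Finite (ZMod 2) F.W1 := Module.Finite.of_finite
  have h7 := LinearMap.finrank_range_add_finrank_ker f
  rw [LinearMap.range_eq_top.2 hsurj, finrank_top, Module.finrank_prod, Module.finrank_self] at h7
  have h8 : 0 < Module.finrank (ZMod 2) (LinearMap.ker f) := by
    rw [Module.finrank_pos_iff]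
    refine ⟨⟨⟨⟨cl e, F.p_mem⟩, ?_⟩, 0, fun h => F.ne ?_⟩⟩
    · rw [LinearMap.mem_ker, hf]
      change (φ (cl e), ψ (cl e)) = 0
      rw [hφ.1, hψ.1]
      rfl
    · exact congrArg (fun x : LinearMap.ker f => ((x : F.W1) : M)) h
  omega

variable (hB : F.Kz)
include hB

/-- (F6) -/
theorem faith {c : G} (hc : c ∈ C) (hn : ∀ m ∈ M1 J V1, c * m * c⁻¹ ∈ M1 J V1)
    (h : ∀ m ∈ M1 J V1, cl (c * m * c⁻¹) = cl m) {m : G} (hm : m ∈ M1 J V1) : c * m * c⁻¹ = m := by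
  -- `f m = c m c⁻¹ m⁻¹ ∈ {1, z}`
  have h1 : ∀ m ∈ M1 J V1, fc (⟨c, hc⟩ : C) m = 1 ∨ fc (⟨c, hc⟩ : C) m = z := by
    intro m hm
    refine F.M1_ker hB (mul_mem (hn m hm) (inv_mem hm)) ?_
    change cl (c * m * c⁻¹ * m⁻¹) = 0
    rw [F.cl_mul _ (F.M1_le (hn m hm)) _ (inv_mem (F.M1_le hm)), F.cl_inv (F.M1_le hm), h m hm,
      Transv.add_self]
  have hmul : ∀ m ∈ M1 J V1, ∀ m' ∈ M1 J V1,
      fc (⟨c, hc⟩ : C) (m * m') = fc (⟨c, hc⟩ : C) m * fc (⟨c, hc⟩ : C) m' := fun m hm m' hm' =>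
    F.fc_mul_W _ (F.M1_le hm) (F.M1_le hm')
  have htriv : ∀ m ∈ F.W1, (⟨c, hc⟩ : C) • m = m := by
    intro m hm
    obtain ⟨x, hx, rfl⟩ := F.exists_M1 hm
    rw [F.cl_smul _ x (F.M1_le hx)]
    exact h x hx
  -- conjugation by `x ∈ J`
  have h2 : ∀ x : C, (x : G) ∈ J → ∀ m ∈ M1 J V1,
      fc (⟨c, hc⟩ : C) ((x : G)⁻¹ * m * x) = fc (⟨c, hc⟩ : C) m := by
    intro x hx m hm
    have hk : x * ⟨c, hc⟩ * x⁻¹ * (⟨c, hc⟩ : C)⁻¹ ∈ F.KW := by
      refine ⟨?_, fun m hm => ?_⟩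
      · have h3 : (x : G) * (c * (x : G)⁻¹ * c⁻¹) ∈ J := mul_mem hx (F.Jn c hc _ (inv_mem hx))
        have e1 : ((x * ⟨c, hc⟩ * x⁻¹ * (⟨c, hc⟩ : C)⁻¹ : C) : G) = (x : G) * (c * (x : G)⁻¹ * c⁻¹) := by
          simp only [Subgroup.coe_mul, Subgroup.coe_inv]
          group
        rw [e1]
        exact h3
      · have h3 : (⟨c, hc⟩ : C)⁻¹ • m = m := by rw [inv_smul_eq_iff, htriv m hm]
        rw [mul_smul, mul_smul, mul_smul, h3, htriv _ (F.J_W1 (x := x⁻¹) (inv_mem hx) hm), smul_inv_smul]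
    have h4 := Kz.comm F hB hk (hn m hm)
    have h5 := F.cl_one
    have h6 : (x : G)⁻¹ * m * x ∈ M1 J V1 := by
      have := M1_conj_J (V1 := V1) (inv_mem hx) hm
      rwa [inv_inv] at this
    have h7 : ((x * ⟨c, hc⟩ * x⁻¹ * (⟨c, hc⟩ : C)⁻¹ : C) : G) * (c * m * c⁻¹) *
        ((x * ⟨c, hc⟩ * x⁻¹ * (⟨c, hc⟩ : C)⁻¹ : C) : G)⁻¹ =
        (x : G) * (c * ((x : G)⁻¹ * m * x) * c⁻¹) * (x : G)⁻¹ := by
      simp only [Subgroup.coe_mul, Subgroup.coe_inv]
      group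
    rw [h7] at h4
    have h8 : fc (⟨c, hc⟩ : C) ((x : G)⁻¹ * m * x) = (x : G)⁻¹ * ((x : G) * (c * ((x : G)⁻¹ * m * x) * c⁻¹) *
        (x : G)⁻¹ * m⁻¹) * x := by
      rw [fc]; group
    rw [h8, h4]
    have h9 : c * m * c⁻¹ * m⁻¹ = fc (⟨c, hc⟩ : C) m := rfl
    rw [h9]
    rcases h1 m hm with h10 | h10
    · rw [h10]; group
    · rw [h10, mul_assoc, ← F.zC x x.2]; group
  -- conclusion
  suffices h3 : fc (⟨c, hc⟩ : C) m = 1 from mul_inv_eq_one.1 h3
  have hz1 : fc (⟨c, hc⟩ : C) z = 1 := by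
    rw [fc]
    change c * z * c⁻¹ * z⁻¹ = 1
    rw [F.zC c hc]; group
  have hker : ∀ m ∈ M1 J V1, cl m = 0 → fc (⟨c, hc⟩ : C) m = 1 := by
    intro m hm h0
    rcases F.M1_ker hB hm h0 with h4 | h4
    · rw [h4, fc]
      change c * 1 * c⁻¹ * 1⁻¹ = 1
      group
    · rw [h4]; exact hz1
  by_cases h0 : cl m = 0
  · exact hker m hm h0
  have hr := F.cl_M1 hm
  obtain ⟨χ, hχ, hχ0⟩ := F.exists_Phi hr h0
  obtain ⟨t, ht, htχ⟩ := F.Phi_nz hr h0 hχ hχ0
  obtain ⟨y, hy, rfl⟩ := F.exists_M1 ht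
  obtain ⟨h4, x, hx, hxr⟩ := F.mem_Phi hχ
  have h5 : (x : G)⁻¹ * y * x ∈ M1 J V1 := by
    have := M1_conj_J (V1 := V1) (inv_mem hx) hy
    rwa [inv_inv] at this
  have h6 := h2 x hx y hy
  have h7 : cl ((x : G)⁻¹ * y * x) = cl y + cl m := by
    have h8 : cl ((x : G)⁻¹ * y * x) = x⁻¹ • cl y := by
      rw [F.cl_smul x⁻¹ y (F.M1_le hy), Subgroup.coe_inv, inv_inv]
    rw [h8, F.act_add h4 hxr, htχ, one_smul]
  -- `x⁻¹ y x · y · m ∈ ⟨z⟩`
  have h8 : cl ((x : G)⁻¹ * y * x * y * m) = 0 := by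
    rw [F.cl_mul _ (F.M1_le (mul_mem h5 hy)) _ (F.M1_le hm), F.cl_mul _ (F.M1_le h5) _ (F.M1_le hy), h7,
      show cl y + cl m + cl y + cl m = (cl y + cl y) + (cl m + cl m) by abel, Transv.add_self,
      Transv.add_self, add_zero]
  have h9 := hker _ (mul_mem (mul_mem h5 hy) hm) h8
  rw [hmul _ (mul_mem h5 hy) _ hm, hmul _ h5 _ hy, h6] at h9
  have h10 : fc (⟨c, hc⟩ : C) y * fc (⟨c, hc⟩ : C) y = 1 := by
    rcases h1 y hy with h11 | h11
    · rw [h11, mul_one]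
    · rw [h11, F.zsq]
  rwa [h10, one_mul] at h9

/-- (F7) : all transvections of `W1` are induced by conjugates of elements of `V` -/
theorem full {q : M} (hq : q ∈ F.W1) (hq0 : q ≠ 0) (χ : Du M) (hχ : χ q = 0) (hχ0 : ∃ m ∈ F.W1, χ m = 1) :
    ∃ x : C, (x : G) ∈ J ∧ ∃ a ∈ V, ∀ m ∈ M1 J V1,
      cl ((x : G) * a * (x : G)⁻¹ * m * ((x : G) * a * (x : G)⁻¹)⁻¹) = cl m + χ (cl m) • q := by
  have hnor := F.cfg.nor
  obtain ⟨φ, hφ, hφ1⟩ := F.Phi_full hq hq0 hχ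
  obtain ⟨y, hy, rfl⟩ := F.exists_J hq hq0
  have h1 := Phi_smul y⁻¹ hφ
  rw [inv_smul_smul] at h1
  have h2 : dua y⁻¹ φ ≠ 0 := by
    intro h
    have h3 : φ = 0 := dua_injective y⁻¹ (by rw [h]; rfl)
    obtain ⟨m, hm, h4⟩ := hχ0
    rw [← hφ1 m hm, h3] at h4
    exact one_ne h4.symm
  obtain ⟨k, hk, a, ha, h3, -⟩ := F.exists_tv hB h1 h2
  refine ⟨y * k, mul_mem hy hk, a, ha, fun m hm => ?_⟩
  have h4 : ∀ m : M, (y * (k * a * k⁻¹) * y⁻¹) • m = m + φ m • (y • cl e) := by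
    intro m
    rw [mul_smul, mul_smul, h3, smul_add, smul_inv_smul, smul_zmod, dua_apply, inv_inv, smul_inv_smul]
  have h5 := h4 (cl m)
  rw [F.cl_smul _ m (F.M1_le hm), hφ1 _ (F.cl_M1 hm)] at h5
  rw [← h5]
  congr 1
  simp only [Subgroup.coe_mul, Subgroup.coe_inv]
  group

end A

section B

variable (F : Fv C J V V1 W Wc z e cl) [Finite M] (hB : F.Kz) {S : Subgroup G} (Y : Sy S C J V V1 W z e)
include F hB Y

/-- `|W1| ≤ 8` -/
theorem card_le [Finite G] : Nat.card F.W1 ≤ 8 := by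
  by_contra hcon
  push Not at hcon
  have hp := self_mem_Pt C (cl e)
  refine F.parity Y fun q hq hq0 hqp ψ hψ hψp => ?_
  obtain ⟨r, hr, χ, hr0, hrp, hψr, hχ, hχp, hχr⟩ := F.cfg.exists_comm hp hcon hq hq0 hqp hψ hψp
  obtain ⟨h1, d, hd, hdq⟩ := F.mem_Phi hχ
  obtain ⟨h2, d', hd', hdr⟩ := F.mem_Phi hψr
  have h3 : ψ q = 0 := hψ.1
  -- both normalise `V1`
  have key : ∀ x : C, (x : G) * e * (x : G)⁻¹ ∈ V1 → x • cl e = cl e →
      ∃ t, (t = 1 ∨ t = z) ∧ (x : G) * e = e * t * x := by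
    intro x h4 h5
    have h6 : cl ((x : G) * e * (x : G)⁻¹) ≠ 0 := by
      rw [← F.cl_smul x e F.eW, h5]; exact F.ne
    rcases (F.V1_ne h4 h6).2 with h7 | h7
    · exact ⟨1, Or.inl rfl, by rw [mul_one]; exact mul_inv_eq_iff_eq_mul.1 h7⟩
    · exact ⟨z, Or.inr rfl, mul_inv_eq_iff_eq_mul.1 h7⟩
  have hdp : d • cl e = cl e := by rw [hdq, hχp, zero_smul, add_zero]
  have hdp' : d' • cl e = cl e := by rw [hdr, hψp, zero_smul, add_zero]
  obtain ⟨s, hs, hds⟩ := key d (F.norm_of_act hB hd hχ hχp hdq F.eV1) hdp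
  obtain ⟨t, ht, hdt⟩ := key d' (F.norm_of_act hB hd' hψr hψp hdr F.eV1) hdp'
  have hcen : ∀ t : G, (t = 1 ∨ t = z) → ∀ x : C, (x : G) * t = t * x := by
    intro t ht x
    rcases ht with h | h
    · rw [h, mul_one, one_mul]
    · rw [h]; exact F.zC x x.2
  have hst : s * t = t * s := by
    rcases hs with h | h <;> rcases ht with h' | h' <;> rw [h, h'] <;> simp
  have h4 : ((d : G) * d') * e = e * (s * t) * (d * d') := by
    have h5 := hcen t ht d
    have h6 := hcen s hs d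
    calc ((d : G) * d') * e = d * (d' * e) := by group
      _ = (d * e) * t * d' := by rw [hdt]; group
      _ = e * s * (d * t) * d' := by rw [hds]; group
      _ = e * (s * t) * (d * d') := by rw [h5]; group
  have h5 : ((d' : G) * d) * e = e * (s * t) * (d' * d) := by
    have h5 := hcen t ht d'
    have h6 := hcen s hs d'
    calc ((d' : G) * d) * e = d' * (d * e) := by group
      _ = (d' * e) * s * d := by rw [hds]; group
      _ = e * t * (d' * s) * d := by rw [hdt]; group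
      _ = e * (t * s) * (d' * d) := by rw [h6]; group
      _ = _ := by rw [hst]
  refine ⟨d * d' * d⁻¹ * d'⁻¹, ?_, mul_mem (mul_mem (mul_mem hd hd') (inv_mem hd)) (inv_mem hd'), fun m _ =>
    comm_act h1 h2 h3 hχr hdq hdr m⟩
  rw [F.mem_cent]
  have h6 : ((d * d' * d⁻¹ * d'⁻¹ : C) : G) = (d * d') * ((d' : G) * d)⁻¹ := by
    simp only [Subgroup.coe_mul, Subgroup.coe_inv]
    group
  have hc1 : ((d : G) * d') * (s * t) = (s * t) * (d * d') := by
    have h7 := hcen s hs (d * d')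
    have h8 := hcen t ht (d * d')
    rw [Subgroup.coe_mul] at h7 h8
    calc ((d : G) * d') * (s * t) = ((d : G) * d' * s) * t := by group
      _ = s * ((d : G) * d' * t) := by rw [h7]; group
      _ = _ := by rw [h8]; group
  have h7 : ((d' : G) * d)⁻¹ * e = e * ((d' : G) * d)⁻¹ * (s * t)⁻¹ := by
    have h8 : e = ((d' : G) * d)⁻¹ * (e * (s * t) * (d' * d)) := by rw [← h5]; group
    have hc2 : (s * t) * ((d' : G) * d) = ((d' : G) * d) * (s * t) := by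
      have h7 := hcen s hs (d' * d)
      have h8 := hcen t ht (d' * d)
      rw [Subgroup.coe_mul] at h7 h8
      calc (s * t) * ((d' : G) * d) = s * (t * (d' * d)) := by group
        _ = (s * (d' * d)) * t := by rw [← h8]; group
        _ = _ := by rw [← h7]; group
    rw [mul_assoc e, hc2] at h8
    calc ((d' : G) * d)⁻¹ * e = (((d' : G) * d)⁻¹ * (e * ((d' : G) * d * (s * t)))) * (s * t)⁻¹ *
          ((d' : G) * d)⁻¹ := by group
      _ = e * ((s * t)⁻¹ * ((d' : G) * d)⁻¹) := by rw [← h8]; group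
      _ = e * (((d' : G) * d) * (s * t))⁻¹ := by group
      _ = e * ((s * t) * ((d' : G) * d))⁻¹ := by rw [hc2]
      _ = _ := by group
  rw [h6]
  calc ((d : G) * d') * ((d' : G) * d)⁻¹ * e = ((d : G) * d') * (((d' : G) * d)⁻¹ * e) := by group
    _ = (((d : G) * d') * e) * ((d' : G) * d)⁻¹ * (s * t)⁻¹ := by rw [h7]; group
    _ = e * (s * t) * (d * d') * ((d' : G) * d)⁻¹ * (s * t)⁻¹ := by rw [h4]
    _ = e * ((d : G) * d' * (s * t)) * ((d' : G) * d)⁻¹ * (s * t)⁻¹ := by rw [hc1]; group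
    _ = e * ((d : G) * d') * ((s * t) * ((d' : G) * d)⁻¹) * (s * t)⁻¹ := by group
    _ = e * ((d : G) * d') * (((d' : G) * d)⁻¹ * (s * t)) * (s * t)⁻¹ := by
        have hc2 : (s * t) * ((d' : G) * d) = ((d' : G) * d) * (s * t) := by
          have h7 := hcen s hs (d' * d)
          have h8 := hcen t ht (d' * d)
          rw [Subgroup.coe_mul] at h7 h8
          calc (s * t) * ((d' : G) * d) = s * (t * (d' * d)) := by group
            _ = (s * (d' * d)) * t := by rw [← h8]; group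
            _ = _ := by rw [← h7]; group
        have h9 : (s * t) * ((d' : G) * d)⁻¹ = ((d' : G) * d)⁻¹ * (s * t) := by
          rw [mul_inv_eq_iff_eq_mul, mul_assoc, hc2]
          group
        rw [h9]
    _ = _ := by group

/-- `dim W1 = 3` -/
theorem finrank_eq [Finite G] : Module.finrank (ZMod 2) F.W1 = 3 := by
  have h1 := F.three_le
  have h2 := F.card_le hB Y
  have : Module.Finite (ZMod 2) F.W1 := Module.Finite.of_finite
  rw [Module.natCard_eq_pow_finrank (K := ZMod 2), Nat.card_zmod] at h2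
  by_contra hcon
  have h3 : 4 ≤ Module.finrank (ZMod 2) F.W1 := by omega
  have h4 : 2 ^ 4 ≤ 2 ^ Module.finrank (ZMod 2) F.W1 := Nat.pow_le_pow_right (by norm_num) h3
  omega

/-- `|M1| = 16` -/
theorem card_M1 [Finite G] (hz : z ≠ 1) : Nat.card (M1 J V1) = 16 := by
  have : Module.Finite (ZMod 2) F.W1 := Module.Finite.of_finite
  let f : M1 J V1 →* Multiplicative F.W1 :=
    { toFun := fun m => Multiplicative.ofAdd ⟨cl m, F.cl_M1 m.2⟩
      map_one' := by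
        rw [← ofAdd_zero]
        congr 1
        exact Subtype.ext F.cl_one
      map_mul' := fun a b => by
        rw [← ofAdd_add]
        congr 1
        exact Subtype.ext (F.cl_mul _ (F.M1_le a.2) _ (F.M1_le b.2)) }
  have hf : ∀ m : M1 J V1, f m = 1 ↔ cl m = 0 := by
    intro m
    constructor
    · intro h
      have h1 : (⟨cl m, F.cl_M1 m.2⟩ : F.W1) = 0 := h
      exact congrArg Subtype.val h1
    · intro h
      have h1 : (⟨cl m, F.cl_M1 m.2⟩ : F.W1) = 0 := Subtype.ext h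
      exact congrArg Multiplicative.ofAdd h1
  have hsurj : Function.Surjective f := by
    intro y
    obtain ⟨m, hm, h⟩ := F.exists_M1 (Multiplicative.toAdd y).2
    exact ⟨⟨m, hm⟩, congrArg Multiplicative.ofAdd (Subtype.ext h)⟩
  have h1 : Nat.card f.ker = 2 := by
    have hzM : z ∈ M1 J V1 := F.V1_le F.zV1
    rw [Nat.card_eq_two_iff]
    refine ⟨⟨1, one_mem _⟩, ⟨⟨z, hzM⟩, (hf _).2 F.cl_z⟩, ?_, ?_⟩
    · intro h
      exact hz (congrArg (fun x : f.ker => ((x : M1 J V1) : G)) h).symm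
    · ext m
      simp only [Set.mem_insert_iff, Set.mem_singleton_iff, Set.mem_univ, iff_true]
      have h2 := (hf m).1 m.2
      rcases F.M1_ker hB m.1.2 h2 with h3 | h3
      · left; exact Subtype.ext (Subtype.ext h3)
      · right; exact Subtype.ext (Subtype.ext h3)
  have h2 := card_mul_index f.ker
  rw [Subgroup.index_ker, MonoidHom.range_eq_top.2 hsurj, Subgroup.card_top, h1] at h2
  have h3 : Nat.card (Multiplicative F.W1) = 8 := by
    have h4 : Nat.card F.W1 = 8 := by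
      rw [Module.natCard_eq_pow_finrank (K := ZMod 2), Nat.card_zmod, F.finrank_eq hB Y]
      rfl
    exact h4
  rw [h3] at h2
  omega

/-- `C_{M1}(v) = V1` -/
theorem cent_M1 [Finite G] (hz : z ≠ 1) (h4 : Nat.card V1 = 4) {v : C} (hv : (v : G) ∈ V) (hv1 : (v : G) ∉ V1)
    (hc : ∀ y ∈ V1, (v : G) * y = y * v) {m : G} (hm : m ∈ M1 J V1) (h : (v : G) * m = m * v) : m ∈ V1 := by
  let f : M1 J V1 →* V1 :=
    { toFun := fun m => ⟨fc v m, F.comm_mem v hv m (F.M1_le m.2)⟩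
      map_one' := Subtype.ext (by change fc v 1 = 1; rw [fc]; group)
      map_mul' := fun a b => Subtype.ext (F.fc_mul_W v (F.M1_le a.2) (F.M1_le b.2)) }
  have hsurj : Function.Surjective f := by
    intro y
    obtain ⟨m, hm, h⟩ := F.M1_surj hB hv hv1 y.2
    exact ⟨⟨m, hm⟩, Subtype.ext h⟩
  have h2 := card_mul_index f.ker
  rw [Subgroup.index_ker, MonoidHom.range_eq_top.2 hsurj, Subgroup.card_top, h4, F.card_M1 hB Y hz] at h2
  have h3 : Nat.card f.ker = 4 := by omega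
  have h5 : (V1.subgroupOf (M1 J V1)) ≤ f.ker := by
    intro y hy
    have hy' : (y : G) ∈ V1 := hy
    rw [MonoidHom.mem_ker]
    apply Subtype.ext
    change fc v y = 1
    rw [fc, hc y hy']; group
  have h6 : Nat.card (V1.subgroupOf (M1 J V1)) = 4 := by
    rw [← h4]
    exact Nat.card_congr (subgroupOfEquivOfLe F.V1_le).toEquiv
  have h7 : V1.subgroupOf (M1 J V1) = f.ker := eq_of_le_of_card_ge h5 (by rw [h3, h6])
  have h8 : (⟨m, hm⟩ : M1 J V1) ∈ f.ker := by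
    rw [MonoidHom.mem_ker]
    apply Subtype.ext
    change fc v m = 1
    rw [fc, h]; group
  rw [← h7] at h8
  exact h8

end B

end Fv

end Cfsg.Agent.Omega.NO1.NatFive

end
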