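import Cfsg.Agent.Mrg.Omega.VP
import Cfsg.Agent.Mrg.Omega.NOne.LemmaT
import Cfsg.Agent.Mrg.Omega.FFBr.Act
import Cfsg.Agent.Mrg.Omega.Transv.Basic

section


/-!
# The configuration of the leaf N1 (= NO-1', MASTER v5.2, project OMEGA)

`Cfg S P` : `G` as in `Frame.Ctx`, `S` a Sylow 2-subgroup, `Full S`, `P ∈ P*(S)` with
`V = V_P ≰ Q = O₂(C)`, `C = C_G(Ω₁(Z(S)))`; so `(P, C)` is nonlocal and `C_V(O²(P)) = 1`.
(No hypothesis on mutual pairs.)

* facts on `V`, `C`, `Q`;
* `Cfg.exists_near` : for every `v ∈ V - Q` there is a frame `Near V (V ∩ Q) D F v` (NOne/NearFF).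
-/

set_option autoImplicit false
set_option linter.unusedSectionVars false

namespace Cfsg.Agent.Omega.NO1

open Subgroup Cfsg Cfsg.Agent.ZN Cfsg.Agent.Omega.MinPar Cfsg.Agent.Omega.Frame
open Cfsg.Agent.MinSimple.VModule (oddGen)
open Cfsg.Agent.Omega.NoFF.LinesPlug (CC NoOne)
open Cfsg.Agent.Omega.NOne.NearFF
open scoped Pointwise

universe u

variable {G : Type u} [Group G] [Finite G]

/-- The configuration of N1. -/
structure Cfg (S : Sylow 2 G) (P : Subgroup G) : Prop where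
  ctx : Ctx G
  full : Full (S : Subgroup G)
  one : NoOne (S : Subgroup G) P

/-- The configuration from the hypotheses of `FrameLE.NodeN1`. -/
theorem Cfg.of {S : Sylow 2 G} {P : Subgroup G} (h : Ctx G) (hF : Full (S : Subgroup G))
    (hP : IsParS (S : Subgroup G) P)
    (hV : ¬ zl (S : Subgroup G) P ≤ o2 (FrameNOFF.CZ (S : Subgroup G))) : Cfg S P := by
  have h1 := NoFF.LinesPlug.nonLoc h.char2 S hP hV
  exact ⟨h, hF, hP, hV, h1, NoFF.LinesPlug.inf_oddGen_eq_bot h.char2 S hP.toIsPar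
    (NoFF.LinesPlug.inf_eq_bot S h1)⟩

namespace Cfg

variable {S : Sylow 2 G} {P : Subgroup G} (h : Cfg S P)
include h

theorem par : IsPar (S : Subgroup G) P := h.one.star.toIsPar

theorem loc : IsLoc (S : Subgroup G) P := h.par.isLoc

theorem S_le : (S : Subgroup G) ≤ P := h.loc.le

omit h in
theorem S_le_CC (S : Sylow 2 G) : (S : Subgroup G) ≤ CC (S : Subgroup G) := le_centralizer_zc _

theorem locC : IsLoc (S : Subgroup G) (CC (S : Subgroup G)) :=
  isLoc_centralizer_zc S (h.ctx.sylow_ne_bot S)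

theorem V_le_o2 : zl (S : Subgroup G) P ≤ o2 P :=
  (h.loc.zl_le S h.ctx.char2).trans (zc_le _)

theorem V_le_S : zl (S : Subgroup G) P ≤ S := h.V_le_o2.trans (h.loc.o2_le S)

theorem V_le_CC : zl (S : Subgroup G) P ≤ CC (S : Subgroup G) := h.V_le_S.trans (S_le_CC S)

theorem V_comm : zl (S : Subgroup G) P ≤ centralizer (zl (S : Subgroup G) P : Set G) := by
  have h1 := h.loc.zl_le S h.ctx.char2
  intro x hx
  rw [mem_centralizer_iff]
  intro y hy
  exact MinSimple.VModule.zc_comm _ _ (h1 hy) _ (h1 hx)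

theorem V_sq (w : G) (hw : w ∈ zl (S : Subgroup G) P) : w ^ 2 = 1 :=
  MinSimple.VModule.zc_sq _ _ (h.loc.zl_le S h.ctx.char2 hw)

theorem V_isPGroup : IsPGroup 2 (zl (S : Subgroup G) P) := S.isPGroup'.to_le h.V_le_S

/-- `Q = O₂(C) ≤ S` -/
theorem Q_le_S : o2 (CC (S : Subgroup G)) ≤ S := h.locC.o2_le S

omit h in
theorem P_norm_V (S : Sylow 2 G) (P : Subgroup G) : P ≤ normalizer (zl (S : Subgroup G) P : Set G) :=
  le_normalizer_zl _ _

theorem Q_norm_V : o2 (CC (S : Subgroup G)) ≤ normalizer (zl (S : Subgroup G) P : Set G) :=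
  (h.Q_le_S.trans h.S_le).trans (P_norm_V S P)

theorem char2C : CC (S : Subgroup G) ⊓ centralizer (o2 (CC (S : Subgroup G)) : Set G) ≤
    o2 (CC (S : Subgroup G)) := h.locC.char2 S h.ctx.char2

theorem Z_le_V : zc (S : Subgroup G) ≤ zl (S : Subgroup G) P := MinSimple.VModule.zc_le_zl _ _

/-- `Z ≤ Q` -/
theorem Z_le_Q : zc (S : Subgroup G) ≤ o2 (CC (S : Subgroup G)) := by
  exact le_o2 ((zc_le _).trans (S_le_CC S)) (S.isPGroup'.to_le (zc_le _)) (centralizer_le_normalizer _)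

theorem Z_le_E : zc (S : Subgroup G) ≤ zl (S : Subgroup G) P ⊓ o2 (CC (S : Subgroup G)) :=
  le_inf h.Z_le_V h.Z_le_Q

/-- There is `v ∈ V - Q`. -/
theorem exists_v : ∃ v ∈ zl (S : Subgroup G) P, v ∉ o2 (CC (S : Subgroup G)) := by
  by_contra hcon
  push Not at hcon
  exact h.one.not_le hcon

/-- `C_S(V) = O₂(P)` -/
theorem S_inf_centralizer :
    (S : Subgroup G) ⊓ centralizer (zl (S : Subgroup G) P : Set G) = o2 P :=
  h.one.star.inf_centralizer S h.ctx.char2

/-- **The frame** at `v ∈ V - Q`. -/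
theorem exists_near {v : G} (hv : v ∈ zl (S : Subgroup G) P) (hvQ : v ∉ o2 (CC (S : Subgroup G))) :
    ∃ g ∈ CC (S : Subgroup G), Fin (zl (S : Subgroup G) P) (o2 (CC (S : Subgroup G))) v g ∧
      ¬ IsPGroup 2 (NOne.Frame.X (V1 (zl (S : Subgroup G) P) (o2 (CC (S : Subgroup G))) v) g) ∧
      ∀ y ∈ CC (S : Subgroup G),
        Nat.card (NOne.Frame.X (V1 (zl (S : Subgroup G) P) (o2 (CC (S : Subgroup G))) v) y) <
          Nat.card (NOne.Frame.X (V1 (zl (S : Subgroup G) P) (o2 (CC (S : Subgroup G))) v) g) →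
        IsPGroup 2 (NOne.Frame.X (V1 (zl (S : Subgroup G) P) (o2 (CC (S : Subgroup G))) v) y) :=
  NOne.NearFF.exists_near h.char2C h.V_le_CC h.V_comm h.V_sq h.Q_norm_V hv hvQ

/-- `Z ≤ D` in every frame. -/
theorem Z_le_D {g : G} (hg : g ∈ CC (S : Subgroup G)) :
    zc (S : Subgroup G) ≤ (zl (S : Subgroup G) P ⊓ o2 (CC (S : Subgroup G))) ⊓
      MulAut.conj g • (zl (S : Subgroup G) P ⊓ o2 (CC (S : Subgroup G))) :=
  NOne.NearFF.le_D h.Z_le_E fun z hz => (mem_centralizer_iff.1 hg z hz).symm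

end Cfg

end Cfsg.Agent.Omega.NO1

end

section


/-!
# N1: `V_P` as an additive module for the group induced by `P` (project OMEGA, assembler helper406)

`Rep S P V Y M T Mx` : `M` is `V` as an additive group (`el : M → G`), `Y` is the group induced by `P`
(`ac : P →* Y`), `T` the image of `S`, `Mx` the unique maximal subgroup of `Y` over `T`, `O₂(Y) = 1`.
-/

set_option autoImplicit false
set_option linter.unusedSectionVars false

namespace Cfsg.Agent.Omega.NO1

open Subgroup Cfsg Cfsg.Agent.ZN Cfsg.Agent.Omega.MinPar Cfsg.Agent.Omega.Frame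
open Cfsg.Agent.Omega.FFBr (XX pr Abs)
open Cfsg.Agent.Omega.NoFF.LinesPlug (CC)

universe u

/-- `V` as a module for the group induced by `P`. -/
structure Rep {G : Type u} [Group G] (S P V : Subgroup G) (Y M : Type u) [Group Y] [AddCommGroup M]
    [DistribMulAction Y M] (T : Sylow 2 Y) (Mx : Subgroup Y) where
  el : M → G
  mem : ∀ m, el m ∈ V
  add : ∀ m n, el (m + n) = el m * el n
  inj : Function.Injective el
  surj : ∀ v ∈ V, ∃ m, el m = v
  ac : P →* Y
  acs : Function.Surjective ac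
  smul : ∀ (p : P) (m : M), el (ac p • m) = p * el m * (p : G)⁻¹
  two : ∀ m : M, m + m = 0
  faith : ∀ y : Y, (∀ m : M, y • m = m) → y = 1
  core : ∀ N : Subgroup Y, N.Normal → IsPGroup 2 N → N = ⊥
  mem_T : ∀ y, y ∈ T ↔ ∃ t : P, (t : G) ∈ S ∧ ac t = y
  TM : (T : Subgroup Y) ≤ Mx
  Mne : Mx ≠ ⊤
  max : ∀ K : Subgroup Y, (T : Subgroup Y) ≤ K → K ≠ ⊤ → K ≤ Mx

section AV

variable {G : Type u} [Group G]

/-- `V` additively -/
def AV (V : Subgroup G) (_ : ∀ v w : V, v * w = w * v) : Type u := Additive V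

variable {V : Subgroup G} {hc : ∀ v w : V, v * w = w * v}

instance : AddCommGroup (AV V hc) :=
  { (inferInstance : AddGroup (Additive V)) with
    add_comm := fun a b => congrArg Additive.ofMul (hc a.toMul b.toMul) }

instance {P : Subgroup G} (h : P ≤ normalizer (V : Set G)) : DistribMulAction (XX h) (AV V hc) where
  smul x m := Additive.ofMul ((x : MulAut V) m.toMul)
  one_smul m := rfl
  mul_smul x y m := rfl
  smul_zero x := by
    change Additive.ofMul ((x : MulAut V) 1) = _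
    rw [map_one]; rfl
  smul_add x a b := by
    change Additive.ofMul ((x : MulAut V) (a.toMul * b.toMul)) = _
    rw [map_mul]; rfl

end AV

variable {G : Type u} [Group G] [Finite G] {S : Sylow 2 G} {P : Subgroup G}

theorem Cfg.exists_rep (h : Cfg S P) :
    ∃ (Y M : Type u) (_ : Group Y) (_ : Finite Y) (_ : AddCommGroup M) (_ : Finite M)
      (_ : DistribMulAction Y M) (T : Sylow 2 Y) (Mx : Subgroup Y),
      Nonempty (Rep (S : Subgroup G) P (zl (S : Subgroup G) P) Y M T Mx) := by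
  have hN := Cfg.P_norm_V S P
  have hc : ¬ P ≤ centralizer (zl (S : Subgroup G) P : Set G) := by
    intro h1
    exact h.one.star.not_zc ((h1.trans (centralizer_le h.Z_le_V)).trans (centralizer_le_normalizer _))
  obtain ⟨T, Mx, hA, hT⟩ := FFBr.abs_of (T := (S : Subgroup G)) (H := P)
    ⟨h.S_le, S.isPGroup', fun _ _ hT hST => S.is_maximal' hT hST⟩
    h.par.toIsMinPar (h.loc.char2 S h.ctx.char2) hc hN
  refine ⟨XX hN, AV (zl (S : Subgroup G) P) hA.comm, inferInstance, inferInstance, inferInstance,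
    inferInstanceAs (Finite (zl (S : Subgroup G) P)), inferInstance, T, Mx, ⟨?_⟩⟩
  exact
    { el := fun m => ((Additive.toMul m : zl (S : Subgroup G) P) : G)
      mem := fun m => (Additive.toMul m : zl (S : Subgroup G) P).2
      add := fun m n => rfl
      inj := fun a b hab => by
        have : (Additive.toMul a : zl (S : Subgroup G) P) = Additive.toMul b := Subtype.ext hab
        exact congrArg Additive.ofMul this
      surj := fun v hv => ⟨Additive.ofMul (⟨v, hv⟩ : zl (S : Subgroup G) P), rfl⟩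
      ac := pr hN
      acs := FFBr.pr_surjective hN
      smul := fun p m => rfl
      two := fun m => congrArg Additive.ofMul (hA.sq (Additive.toMul m))
      faith := fun y hy => hA.faith y fun v => by
        have h1 := hy (Additive.ofMul v)
        exact congrArg Additive.toMul h1
      core := hA.core
      mem_T := hT
      TM := hA.TM
      Mne := hA.Mne
      max := fun K hK hK1 => (hA.max K hK).resolve_right hK1 }

end Cfsg.Agent.Omega.NO1

end

section


/-!
# N1, (BT) with `|V / E| = 2`: facts in `G` for the bridge (project OMEGA, assembler helper406)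

`V = V_P`, `Ω₁(Z(S)) = {1, z}`, `Q_x = O₂(C_G(x))`, `E_x = V ∩ Q_x` for the `P`-conjugates `x` of `z`.
-/

set_option autoImplicit false
set_option linter.unusedSectionVars false

namespace Cfsg.Agent.Omega.NO1.TwoG

open Subgroup Cfsg Cfsg.Agent.ZN Cfsg.Agent.Omega.MinPar Cfsg.Agent.Omega.Frame
open Cfsg.Agent.Omega.NoFF.LinesPlug (CC)
open Cfsg.Agent.Omega.NoFF.Basic (mem_conj conj_le_iff conj_conj)
open Cfsg.Agent.Omega.NOne.Frame (mem_conj' X norm_mem comm_of_le_centralizer)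
open Cfsg.Agent.Omega.NOne.NearFF
open scoped Pointwise

universe u

variable {G : Type u} [Group G]

/-- `Q_x = O₂(C_G(x))` -/
abbrev Qx (x : G) : Subgroup G := o2 (centralizer ({x} : Set G))

/-- `E_x = V ∩ Q_x` -/
abbrev Ex (V : Subgroup G) (x : G) : Subgroup G := V ⊓ Qx x

theorem idx2 {E V : Subgroup G} (h2 : E.relIndex V = 2) {a b : G} (ha : a ∈ V) (hb : b ∈ V) :
    a * b ∈ E ↔ (a ∈ E ↔ b ∈ E) := by
  have h1 := Subgroup.mul_mem_iff_of_index_two (H := E.subgroupOf V) h2 (a := ⟨a, ha⟩) (b := ⟨b, hb⟩)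
  exact h1

theorem cent_conj (p x : G) : centralizer ({p * x * p⁻¹} : Set G) = MulAut.conj p • centralizer ({x} : Set G) := by
  ext y
  rw [mem_conj, mem_centralizer_singleton_iff, mem_centralizer_singleton_iff]
  constructor
  · intro h
    calc p⁻¹ * y * p * x = p⁻¹ * (y * (p * x * p⁻¹)) * p := by group
      _ = p⁻¹ * ((p * x * p⁻¹) * y) * p := by rw [h]
      _ = x * (p⁻¹ * y * p) := by group
  · intro h
    calc y * (p * x * p⁻¹) = p * (p⁻¹ * y * p * x) * p⁻¹ := by group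
      _ = p * (x * (p⁻¹ * y * p)) * p⁻¹ := by rw [h]
      _ = (p * x * p⁻¹) * y := by group

theorem o2_conj_smul (p : G) (L : Subgroup G) : o2 (MulAut.conj p • L) = MulAut.conj p • o2 L :=
  o2_map_equiv (MulAut.conj p) L

theorem Qx_conj (p x : G) : Qx (p * x * p⁻¹) = MulAut.conj p • Qx x := by
  rw [Qx, cent_conj, o2_conj_smul]

theorem conj_V {V P : Subgroup G} (h : P ≤ normalizer (V : Set G)) {p : G} (hp : p ∈ P) :
    MulAut.conj p • V = V := by
  ext y
  rw [mem_conj]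
  exact (mem_normalizer_iff''.1 (h hp) y).symm

theorem Ex_conj {V P : Subgroup G} (h : P ≤ normalizer (V : Set G)) {p : G} (hp : p ∈ P) (x : G) :
    Ex V (p * x * p⁻¹) = MulAut.conj p • Ex V x := by
  rw [Ex, Qx_conj, Ex, smul_inf, conj_V h hp]

section Cfg

variable [Finite G] {S : Sylow 2 G} {P : Subgroup G}

theorem exists_z (hZ : Nat.card (zc (S : Subgroup G)) = 2) :
    ∃ z ∈ zc (S : Subgroup G), z ≠ 1 ∧ ∀ x ∈ zc (S : Subgroup G), x = 1 ∨ x = z := by
  obtain ⟨x, y, hxy, hu⟩ := Nat.card_eq_two_iff.1 hZ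
  by_cases hx : x = 1
  · refine ⟨y, y.2, fun h => hxy ?_, fun w hw => ?_⟩
    · rw [hx]; exact Subtype.ext h.symm
    · have : (⟨w, hw⟩ : zc (S : Subgroup G)) ∈ ({x, y} : Set _) := by rw [hu]; trivial
      rcases this with h | h
      · left; rw [hx] at h; exact congrArg Subtype.val h
      · right; exact congrArg Subtype.val h
  · refine ⟨x, x.2, fun h => hx (Subtype.ext h), fun w hw => ?_⟩
    have h1 : (1 : zc (S : Subgroup G)) ∈ ({x, y} : Set _) := by rw [hu]; trivial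
    have hy : y = 1 := by
      rcases h1 with h | h
      · exact absurd h.symm hx
      · exact h.symm
    have : (⟨w, hw⟩ : zc (S : Subgroup G)) ∈ ({x, y} : Set _) := by rw [hu]; trivial
    rcases this with h | h
    · right; exact congrArg Subtype.val h
    · left; rw [hy] at h; exact congrArg Subtype.val h

/-- The data `z`. -/
structure Zd (S : Sylow 2 G) (z : G) : Prop where
  mem : z ∈ zc (S : Subgroup G)
  ne : z ≠ 1
  eq : ∀ x ∈ zc (S : Subgroup G), x = 1 ∨ x = z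

theorem Zd.CC {z : G} (hz : Zd S z) : CC (S : Subgroup G) = centralizer ({z} : Set G) := by
  apply le_antisymm
  · exact centralizer_le (Set.singleton_subset_iff.2 hz.mem)
  · intro y hy
    rw [mem_centralizer_singleton_iff] at hy
    rw [mem_centralizer_iff]
    intro x hx
    rcases hz.eq x hx with rfl | rfl
    · rw [one_mul, mul_one]
    · exact hy.symm

variable (h : Cfg S P) {z : G} (hz : Zd S z)
include h hz

theorem Q_eq : o2 (CC (S : Subgroup G)) = Qx z := by rw [hz.CC]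

/-- `Q_x ≤ P` normalises `V` -/
theorem Qx_le_P {p : G} (hp : p ∈ P) : Qx (p * z * p⁻¹) ≤ P := by
  rw [Qx_conj]
  intro y hy
  rw [mem_conj] at hy
  have h1 : p⁻¹ * y * p ∈ P := h.S_le (h.Q_le_S (by rw [Q_eq h hz]; exact hy))
  have e : y = p * (p⁻¹ * y * p) * p⁻¹ := by group
  rw [e]
  exact mul_mem (mul_mem hp h1) (inv_mem hp)

theorem relIndex_Ex (hA : (Ex (zl (S : Subgroup G) P) z).relIndex (zl (S : Subgroup G) P) = 2) {p : G}
    (hp : p ∈ P) :
    (Ex (zl (S : Subgroup G) P) (p * z * p⁻¹)).relIndex (zl (S : Subgroup G) P) = 2 := by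
  have hV := conj_V (Cfg.P_norm_V S P) hp
  have h1 := relIndex_pointwise_smul (MulAut.conj p) (Ex (zl (S : Subgroup G) P) z) (zl (S : Subgroup G) P)
  rw [hV, hA] at h1
  rw [Ex_conj (Cfg.P_norm_V S P) hp]
  exact h1

end Cfg

/-! ### (*) -/

section star

/-- If `V = (V ∩ Q) (V ∩ Q')`, `Q`, `Q'` normalise `V` and `g` normalises `Q`, `Q'`, then `⟨V, V^g⟩` is a
2-group. -/
theorem isPGroup_X {V Q Q' : Subgroup G} {g : G} (hV2 : IsPGroup 2 V) (hsup : (V ⊓ Q) ⊔ (V ⊓ Q') = V)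
    (hQ : Q ≤ normalizer (V : Set G)) (hQ' : Q' ≤ normalizer (V : Set G))
    (hgQ : MulAut.conj g • Q = Q) (hgQ' : MulAut.conj g • Q' = Q') : IsPGroup 2 (X V g) := by
  have h1 : MulAut.conj g • ((V ⊓ Q) ⊔ (V ⊓ Q')) ≤ normalizer (V : Set G) := by
    rw [smul_sup]
    refine sup_le (le_trans ?_ hQ) (le_trans ?_ hQ')
    · calc MulAut.conj g • (V ⊓ Q) ≤ MulAut.conj g • Q := conj_le_iff.2 inf_le_right
        _ = Q := hgQ
    · calc MulAut.conj g • (V ⊓ Q') ≤ MulAut.conj g • Q' := conj_le_iff.2 inf_le_right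
        _ = Q' := hgQ'
  rw [hsup] at h1
  refine hV2.to_sup_of_normal_left' ?_ h1
  exact hV2.map _

theorem sup_eq_of_index_two [Finite G] {V A B : Subgroup G} (hA : A ≤ V) (hB : B ≤ V)
    (hA2 : A.relIndex V = 2) (hB2 : B.relIndex V = 2) (hne : A ≠ B) : A ⊔ B = V := by
  have h1 : A ⊔ B ≤ V := sup_le hA hB
  have h2 := relIndex_mul_relIndex A (A ⊔ B) V le_sup_left h1
  rw [hA2] at h2
  have h3 : (A ⊔ B).relIndex V ∣ 2 := ⟨_, by rw [mul_comm]; exact h2.symm⟩
  rcases (Nat.dvd_prime Nat.prime_two).1 h3 with h4 | h4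
  · exact le_antisymm h1 (relIndex_eq_one.1 h4)
  · exfalso
    rw [h4] at h2
    have h5 : A.relIndex (A ⊔ B) = 1 := by omega
    have h6 : A ⊔ B ≤ A := relIndex_eq_one.1 h5
    have h7 : B ≤ A := le_sup_right.trans h6
    apply hne
    have h8 := relIndex_mul_relIndex B A V h7 hA
    rw [hB2, hA2] at h8
    have h9 : B.relIndex A = 1 := by omega
    exact le_antisymm (relIndex_eq_one.1 h9) h7

variable [Finite G] {S : Sylow 2 G} {P : Subgroup G} (h : Cfg S P) {z : G} (hz : Zd S z)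
include h hz

theorem star (hA : (Ex (zl (S : Subgroup G) P) z).relIndex (zl (S : Subgroup G) P) = 2)
    {v g : G} (hF : Fin (zl (S : Subgroup G) P) (Qx z) v g) (hv : v ∈ zl (S : Subgroup G) P)
    (hX : ¬ IsPGroup 2 (X (V1 (zl (S : Subgroup G) P) (Qx z) v) g))
    {p : G} (hp : p ∈ P)
    (hy : p * z * p⁻¹ ∈ (zl (S : Subgroup G) P ⊓ Qx z) ⊓ MulAut.conj g • (zl (S : Subgroup G) P ⊓ Qx z)) :
    Ex (zl (S : Subgroup G) P) (p * z * p⁻¹) = Ex (zl (S : Subgroup G) P) z := by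
  by_contra hne
  have hV1 : V1 (zl (S : Subgroup G) P) (Qx z) v ≤ zl (S : Subgroup G) P := V1_le hv
  have hXle : X (V1 (zl (S : Subgroup G) P) (Qx z) v) g ≤ X (zl (S : Subgroup G) P) g :=
    sup_le_sup hV1 (conj_le_iff.2 hV1)
  have hgy : g * (p * z * p⁻¹) = (p * z * p⁻¹) * g := hF.cent g (hXle hF.fr.gX) _ hy
  apply hX
  refine IsPGroup.to_le ?_ hXle
  have h1 := sup_eq_of_index_two inf_le_left inf_le_left (relIndex_Ex h hz hA hp) hA hne
  refine isPGroup_X h.V_isPGroup h1 ?_ ?_ ?_ hF.fr.gQ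
  · exact (Qx_le_P h hz hp).trans (Cfg.P_norm_V S P)
  · rw [← Q_eq h hz]; exact h.Q_norm_V
  · rw [← Qx_conj, hgy, mul_inv_cancel_right]

end star

end Cfsg.Agent.Omega.NO1.TwoG

end

section


/-!
# N1, (BT) with `|V / E| = 2`: the full family (project OMEGA, assembler helper406)

`Gd z f Q x B` : all conditions of `NearFF.Dat` on `B ∈ BB x`; the family of all these `B` is equivariant, so one
good `B` at `z` gives the datum (`dat_of`).
-/

set_option autoImplicit false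
set_option linter.unusedSectionVars false

namespace Cfsg.Agent.Omega.NearFF

open Subgroup MulAction Cfsg.Agent.Omega.Transv

variable {Y : Type*} [Group Y] {V : Type*} [AddCommGroup V] [Module (ZMod 2) V] [DistribMulAction Y V]

/-- `B^g` -/
abbrev cjB (g : Y) (B : Subgroup Y) : Subgroup Y := B.map (MulAut.conj g).toMonoidHom

theorem mem_cjB {g : Y} {B : Subgroup Y} {a : Y} : a ∈ cjB g B ↔ ∃ b ∈ B, g * b * g⁻¹ = a := Iff.rfl

theorem conj_smul_iff {g b : Y} {v : V} : (g * b * g⁻¹) • v = v ↔ b • (g⁻¹ • v) = g⁻¹ • v := by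
  rw [mul_smul, mul_smul, ← eq_inv_smul_iff]

theorem fx_cjB {g : Y} {B : Subgroup Y} {v : V} : Fx (cjB g B) v ↔ Fx B (g⁻¹ • v) := by
  constructor
  · intro h b hb
    exact conj_smul_iff.1 (h _ (mem_cjB.2 ⟨b, hb, rfl⟩))
  · intro h a ha
    obtain ⟨b, hb, rfl⟩ := mem_cjB.1 ha
    exact conj_smul_iff.2 (h b hb)

theorem inv_smul_cm {g b : Y} {v : V} : g⁻¹ • cm (g * b * g⁻¹) v = cm b (g⁻¹ • v) := by
  rw [cm, cm, smul_add, smul_smul, ← mul_smul]
  congr 2
  group

theorem mem_orbit_inv_smul {z w : V} {g : Y} (hw : w ∈ orbit Y z) : g⁻¹ • w ∈ orbit Y z := by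
  obtain ⟨h, rfl⟩ := hw
  exact ⟨g⁻¹ * h, mul_smul _ _ _⟩

theorem NB.smul {φ : Du V} {B : Subgroup Y} (h : NB φ B) (g : Y) : NB (dua g φ) (cjB g B) where
  comm a ha b hb := by
    obtain ⟨a', ha', rfl⟩ := mem_cjB.1 ha
    obtain ⟨b', hb', rfl⟩ := mem_cjB.1 hb
    calc g * a' * g⁻¹ * (g * b' * g⁻¹) = g * (a' * b') * g⁻¹ := by group
      _ = g * (b' * a') * g⁻¹ := by rw [h.comm a' ha' b' hb']
      _ = g * b' * g⁻¹ * (g * a' * g⁻¹) := by group
  sq a ha := by
    obtain ⟨a', ha', rfl⟩ := mem_cjB.1 ha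
    calc g * a' * g⁻¹ * (g * a' * g⁻¹) = g * (a' * a') * g⁻¹ := by group
      _ = 1 := by rw [h.sq a' ha']; group
  ne hb := by
    apply h.ne
    rw [eq_bot_iff]
    intro b hb'
    have h1 : g * b * g⁻¹ ∈ cjB g B := mem_cjB.2 ⟨b, hb', rfl⟩
    rw [hb, mem_bot] at h1
    rw [mem_bot]
    have : b = g⁻¹ * (g * b * g⁻¹) * g := by group
    rw [this, h1]; group
  inv a ha v := by
    obtain ⟨a', ha', rfl⟩ := mem_cjB.1 ha
    rw [dua_apply, dua_apply, smul_smul]
    have e : g⁻¹ * (g * a' * g⁻¹) = a' * g⁻¹ := by group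
    rw [e, mul_smul, h.inv a' ha']
  ed e he a ha := by
    obtain ⟨a', ha', rfl⟩ := mem_cjB.1 ha
    rw [fx_cjB, inv_smul_cm]
    exact h.ed _ he a' ha'
  inj v hv a ha hf := by
    obtain ⟨a', ha', rfl⟩ := mem_cjB.1 ha
    rw [fx_cjB, inv_smul_cm] at hf
    rw [h.inj _ hv a' ha' hf]
    group
  surj v e hv he := by
    obtain ⟨b, hb, hbe⟩ := h.surj _ _ hv he
    refine ⟨_, mem_cjB.2 ⟨b, hb, rfl⟩, ?_⟩
    rw [fx_cjB, smul_add, inv_smul_cm]
    exact hbe

/-- all conditions on `B ∈ BB x` -/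
structure Gd (z : V) (f : V → Du V) (Q : V → Subgroup Y) (x : V) (B : Subgroup Y) : Prop where
  fx : Fx B x
  nb : NB (f x) B
  all : ∀ y ∈ orbit Y z, Fx B y → f y = f x ∧ B ≤ Q y ∧ Q y ≤ normalizer (B : Set Y)

variable {z : V} {f : V → Du V} {Q : V → Subgroup Y}

theorem Gd.star {x : V} {B : Subgroup Y} (h : Gd z f Q x B) {y : V} (hy : y ∈ orbit Y z) (hB : Fx B y) :
    Gd z f Q y B where
  fx := hB
  nb := by rw [(h.all y hy hB).1]; exact h.nb
  all w hw hwB := by
    refine ⟨?_, (h.all w hw hwB).2⟩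
    rw [(h.all w hw hwB).1, (h.all y hy hB).1]

theorem Gd.smul (hf : ∀ (g : Y) (x : V), x ∈ orbit Y z → f (g • x) = dua g (f x))
    (hQ : ∀ (g : Y) (x : V), x ∈ orbit Y z → ∀ a ∈ Q x, g * a * g⁻¹ ∈ Q (g • x))
    {x : V} (hx : x ∈ orbit Y z) {B : Subgroup Y} (h : Gd z f Q x B) (g : Y) : Gd z f Q (g • x) (cjB g B) where
  fx := by rw [fx_cjB, inv_smul_smul]; exact h.fx
  nb := by rw [hf g x hx]; exact h.nb.smul g
  all w hw hwB := by
    rw [fx_cjB] at hwB
    have hw' := mem_orbit_inv_smul (g := g) hw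
    obtain ⟨h1, h2, h3⟩ := h.all _ hw' hwB
    refine ⟨?_, ?_, ?_⟩
    · rw [hf g x hx, ← h1, ← hf g _ hw', smul_inv_smul]
    · intro a ha
      obtain ⟨b, hb, rfl⟩ := mem_cjB.1 ha
      have := hQ g _ hw' b (h2 hb)
      rwa [smul_inv_smul] at this
    · intro a ha
      have ha' : g⁻¹ * a * g ∈ Q (g⁻¹ • w) := by
        have := hQ g⁻¹ w hw a ha
        rwa [inv_inv] at this
      have h4 := mem_normalizer_iff.1 (h3 ha')
      rw [mem_normalizer_iff]
      intro b
      have key : ∀ c : Y, c ∈ cjB g B ↔ g⁻¹ * c * g ∈ B := by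
        intro c
        rw [mem_cjB]
        constructor
        · rintro ⟨b, hb, rfl⟩
          have e : g⁻¹ * (g * b * g⁻¹) * g = b := by group
          rwa [e]
        · intro hc
          exact ⟨_, hc, by group⟩
      rw [key, key]
      have h5 := h4 (g⁻¹ * b * g)
      rw [h5]
      have e : g⁻¹ * a * g * (g⁻¹ * b * g) * (g⁻¹ * a * g)⁻¹ = g⁻¹ * (a * b * a⁻¹) * g := by group
      rw [e]

/-- The datum from one good `B`. -/
theorem dat_of {T : Sylow 2 Y} {M : Subgroup Y} (faith : Faith Y V) (le : (T : Subgroup Y) ≤ M) (ne : M ≠ ⊤)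
    (max : ∀ X : Subgroup Y, (T : Subgroup Y) ≤ X → X ≤ M ∨ X = ⊤) (z_ne : z ≠ 0)
    (z_fix : Fx (T : Subgroup Y) z) (fixT : ∀ v : V, Fx (T : Subgroup Y) v → v = 0 ∨ v = z)
    (span : Submodule.span (ZMod 2) (Set.range fun g : Y => g • z) = ⊤)
    (noff : ∀ A : Subgroup Y, A ≠ ⊥ → (∀ a ∈ A, ∀ b ∈ A, a * b = b * a) → (∀ a ∈ A, a * a = 1) →
      Nat.card A * Nat.card {v : V // Fx A v} < Nat.card V)
    (f_smul : ∀ (g : Y) (x : V), x ∈ orbit Y z → f (g • x) = dua g (f x)) (f_self : f z z = 0) (f_ne : f z ≠ 0)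
    (q_smul : ∀ (g : Y) (x : V), x ∈ orbit Y z → ∀ a ∈ Q x, g * a * g⁻¹ ∈ Q (g • x))
    (q_two : IsPGroup 2 (Q z)) (q_fix : Fx (Q z) z) {B : Subgroup Y} (hB : Gd z f Q z B) :
    Dat T M z f Q fun x => {B | Gd z f Q x B} where
  faith := faith
  le := le
  ne := ne
  max := max
  z_ne := z_ne
  z_fix := z_fix
  fixT := fixT
  span := span
  noff := noff
  f_smul := f_smul
  f_self := f_self
  f_ne := f_ne
  q_smul := q_smul
  q_two := q_two
  q_fix := q_fix
  bb_smul g _ hx _ hB := Gd.smul f_smul q_smul hx hB g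
  bb_ne := ⟨B, hB⟩
  bb_le _ hB := (hB.all z (mem_orbit_self z) hB.fx).2.1
  bb_norm _ hB a ha b hb := (mem_normalizer_iff.1 ((hB.all z (mem_orbit_self z) hB.fx).2.2 ha) b).1 hb
  bb _ hB := hB.nb
  star _ hB x hx hBx := (hB.all x hx hBx).1

end Cfsg.Agent.Omega.NearFF

end
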