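import Cfsg.Agent.Mrg.Omega.NO1.Cfg
import Cfsg.Agent.Mrg.Omega.VP
import Cfsg.Agent.Mrg.Omega.FrameI
import Cfsg.Agent.Mrg.Omega.NatPair.Quad

section


/-!
# The types of `V_P` in the leaf N1 (= NO-1', project OMEGA)

`V = V_P`, `Z = Ω₁(Z(S))`.  The types of the pair `(P/C_P(V), V)` (conclusion of the near-FF theorem (BT)):

* `Minus2 S P z` : `V = O₄⁻(2)`, five singular vectors `z i`, `Z = ⟨z 0⟩`, `P` induces at least `A₅` on them;
* `Plus2 S P z` : `V = O₄⁺(2) = N₁ ⊗ N₂`, nine singular vectors `z i j` (rows and columns are lines),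
  `Z = ⟨z 0 0⟩`, `P` induces `S₃ ≀ 2`;
* `Nat4 S P` : `V = F₄²` is the natural module of a normal subgroup `SL₂(4)`, `|Z| = 2`, `|V/E| = 2`;
* `MinusQ K σ P V` : `V = O₄⁻(q)` = the hermitian `2 × 2`-matrices over `K`, `|K| = q²`;
* `PlusQ F P V` : `V = O₄⁺(q)` = `M₂(F)` = `N ⊗ N'`, the two factors `SL₂(F)` are interchanged by `P` (and
  `|V/E| ≥ 4`).
-/

set_option autoImplicit false
set_option linter.unusedSectionVars false

namespace Cfsg.Agent.Omega.NO1

open Subgroup Cfsg Cfsg.Agent.ZN Cfsg.Agent.Omega.MinPar Cfsg.Agent.Omega.Frame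
open Cfsg.Agent.Omega.FrameFF (NatOver)

universe u

section defs

variable {G : Type u} [Group G]

/-- **(β), `q = 2`**: `V = O₄⁻(2)`, the singular vectors are `z 0, …, z 4`. -/
structure Minus2 (S P : Subgroup G) (z : Fin 5 → G) : Prop where
  inj : Function.Injective z
  ne_one : ∀ i, z i ≠ 1
  sq : ∀ i, z i * z i = 1
  comm : ∀ i j, z i * z j = z j * z i
  prod : z 0 * z 1 * z 2 * z 3 * z 4 = 1
  gen : closure (Set.range z) = zl S P
  Z : zc S = zpowers (z 0)
  perm : ∀ m ∈ P, ∃ σ : Equiv.Perm (Fin 5), ∀ i, m * z i * m⁻¹ = z (σ i)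
  alt : ∀ σ ∈ alternatingGroup (Fin 5), ∃ m ∈ P, ∀ i, m * z i * m⁻¹ = z (σ i)

/-- **(γ), `q = 2`**: `V = O₄⁺(2) = N₁ ⊗ N₂`, the singular vectors are `z i j`. -/
structure Plus2 (S P : Subgroup G) (z : Fin 3 → Fin 3 → G) : Prop where
  inj : ∀ i j k l, z i j = z k l → i = k ∧ j = l
  ne_one : ∀ i j, z i j ≠ 1
  sq : ∀ i j, z i j * z i j = 1
  comm : ∀ i j k l, z i j * z k l = z k l * z i j
  row : ∀ i, z i 0 * z i 1 * z i 2 = 1
  col : ∀ j, z 0 j * z 1 j * z 2 j = 1
  gen : closure (Set.range fun x : Fin 3 × Fin 3 => z x.1 x.2) = zl S P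
  Z : zc S = zpowers (z 0 0)
  perm : ∀ m ∈ P, ∃ σ τ : Equiv.Perm (Fin 3), (∀ i j, m * z i j * m⁻¹ = z (σ i) (τ j)) ∨
    (∀ i j, m * z i j * m⁻¹ = z (σ j) (τ i))
  full : ∀ σ τ : Equiv.Perm (Fin 3), ∃ m ∈ P, ∀ i j, m * z i j * m⁻¹ = z (σ i) (τ j)
  swap : ∃ m ∈ P, ∀ i j, m * z i j * m⁻¹ = z j i

/-- The subgroup `E = V ∩ Q`, `Q = O₂(C_G(Z))`. -/
abbrev EE (S P : Subgroup G) : Subgroup G := zl S P ⊓ o2 (NoFF.LinesPlug.CC S)

/-- **(α)**: `V = F₄²` is the natural `SL₂(4)`-module, `|Z| = 2` (so `S` contains a field automorphism) and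
`|V / E| = 2`. -/
structure Nat4 (S P : Subgroup G) : Prop where
  nat : ∃ (F : Type) (_ : Field F) (_ : Finite F) (_ : CharP F 2), Nat.card F = 4 ∧
    Nonempty (NatOver F P (zl S P) ⊥)
  Z : Nat.card (zc S) = 2
  ind : (EE S P).relIndex (zl S P) = 2

/-- **(β)**: `V = O₄⁻(q)`, the hermitian `2 × 2`-matrices over `K`, `σ` an automorphism of order 2 of `K`,
`|K| = q²`; `SL₂(K)` acts by `X ↦ A X A^*` (a normal subgroup of the group induced by `N`). -/
structure MinusQ (K : Type) [Field K] (σ : K ≃+* K) (N V : Subgroup G) where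
  e : G → Matrix (Fin 2) (Fin 2) K
  herm : ∀ v ∈ V, ((e v).map σ).transpose = e v
  mul : ∀ v ∈ V, ∀ w ∈ V, e (v * w) = e v + e w
  surj : ∀ X : Matrix (Fin 2) (Fin 2) K, (X.map σ).transpose = X → ∃ v ∈ V, e v = X
  ker : ∀ v ∈ V, e v = 0 → v = 1
  lift : ∀ A : Matrix.SpecialLinearGroup (Fin 2) K, ∃ g ∈ N, ∀ v ∈ V,
    e (g * v * g⁻¹) = A.1 * e v * (A.1.map σ).transpose
  norm : ∀ g ∈ N, ∀ h ∈ N, ∀ A : Matrix.SpecialLinearGroup (Fin 2) K,
    (∀ v ∈ V, e (h * v * h⁻¹) = A.1 * e v * (A.1.map σ).transpose) →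
      ∃ B : Matrix.SpecialLinearGroup (Fin 2) K,
        ∀ v ∈ V, e (g * h * g⁻¹ * v * (g * h * g⁻¹)⁻¹) = B.1 * e v * (B.1.map σ).transpose

/-- **(γ)**: `V = O₄⁺(q) = M₂(F)`, `SL₂(F) × SL₂(F)` acts by `X ↦ A X Bᵀ` (a normal subgroup of the group
induced by `N`), and `N` interchanges the two factors. -/
structure PlusQ (F : Type) [Field F] (N V : Subgroup G) where
  e : G → Matrix (Fin 2) (Fin 2) F
  mul : ∀ v ∈ V, ∀ w ∈ V, e (v * w) = e v + e w
  surj : ∀ X : Matrix (Fin 2) (Fin 2) F, ∃ v ∈ V, e v = X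
  ker : ∀ v ∈ V, e v = 0 → v = 1
  lift : ∀ A B : Matrix.SpecialLinearGroup (Fin 2) F, ∃ g ∈ N, ∀ v ∈ V,
    e (g * v * g⁻¹) = A.1 * e v * B.1.transpose
  norm : ∀ g ∈ N, ∀ h ∈ N, ∀ A B : Matrix.SpecialLinearGroup (Fin 2) F,
    (∀ v ∈ V, e (h * v * h⁻¹) = A.1 * e v * B.1.transpose) →
      ∃ A' B' : Matrix.SpecialLinearGroup (Fin 2) F,
        ∀ v ∈ V, e (g * h * g⁻¹ * v * (g * h * g⁻¹)⁻¹) = A'.1 * e v * B'.1.transpose
  swap : ∃ s ∈ N, ∀ h ∈ N, ∀ A : Matrix.SpecialLinearGroup (Fin 2) F,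
    (∀ v ∈ V, e (h * v * h⁻¹) = A.1 * e v) →
      ∃ B : Matrix.SpecialLinearGroup (Fin 2) F,
        ∀ v ∈ V, e (s * h * s⁻¹ * v * (s * h * s⁻¹)⁻¹) = e v * B.1.transpose

/-- The five types. -/
inductive Ty (S P : Subgroup G) : Prop
  | minus2 (z : Fin 5 → G) (h : Minus2 S P z)
  | plus2 (z : Fin 3 → Fin 3 → G) (h : Plus2 S P z)
  | nat4 (h : Nat4 S P)
  | minusQ (K : Type) [Field K] [Finite K] [CharP K 2] (σ : K ≃+* K) (h1 : σ ≠ RingEquiv.refl K)
      (h2 : ∀ x, σ (σ x) = x) (h4 : 16 ≤ Nat.card K) (h : Nonempty (MinusQ K σ P (zl S P)))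
  | plusQ (F : Type) [Field F] [Finite F] [CharP F 2] (h4 : 4 ≤ Nat.card F)
      (hE : 4 ≤ (EE S P).relIndex (zl S P)) (h : Nonempty (PlusQ F P (zl S P)))

end defs

end Cfsg.Agent.Omega.NO1

end

section


/-!
# THEOREM ALL-N1: the types `Minus2` and `Plus2` do not coexist with `Core` (bb #16847 (4), helper983)

* `Core.not_minus2`, `Core.not_plus2`.
-/

set_option autoImplicit false
set_option linter.unusedSectionVars false

namespace Cfsg.Agent.Omega.All.NOne

open Subgroup Cfsg Cfsg.Agent.ZN Cfsg.Agent.Omega.MinPar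
open Cfsg.Agent.Omega.FrameNOFF (CZ)
open SmallFour (mm ad sc ac Ind)

universe u

variable {G : Type u} [Group G]

/-- abstract form of the final step -/
theorem four_of {R : Subgroup G} (hR : Nat.card R = 4) {z : Fin 4 → G} (D : Ind z) {s a : Fin 4 → Bool}
    (hs : mm z s ∈ R) (ha : mm z a ∈ R) (hs0 : s ≠ fun _ => false) (ha0 : a ≠ fun _ => false) (has : a ≠ s)
    {g : G} {M : Fin 4 → Fin 4 → Bool} (hg : ∀ i, g * z i * g⁻¹ = mm z (M i))
    {b : Fin 4 → Bool} (hgR : g * mm z b * g⁻¹ ∈ R) :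
    ac M b = (fun _ => false) ∨ ac M b = s ∨ ac M b = a ∨ ac M b = ad a s := by
  rw [D.conj hg] at hgR
  have h1 : ∀ b, mm z b = 1 → b = fun _ => false := D.ind
  rcases mem_of_card_four hR hs ha (fun h => hs0 (D.ind _ h)) (fun h => ha0 (D.ind _ h))
    (fun h => has (D.inj h)) (D.mm_sq s) hgR with h | h | h | h
  · exact Or.inl (D.ind _ h)
  · exact Or.inr (Or.inl (D.inj h))
  · exact Or.inr (Or.inr (Or.inl (D.inj h)))
  · rw [D.mm_mul] at h
    exact Or.inr (Or.inr (Or.inr (D.inj h)))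

/-! ### `Minus2` -/

section minus

variable {S P : Subgroup G} {z : Fin 5 → G} (m : NO1.Minus2 S P z)
include m

theorem minus_zero : z 0 = z 1 * z 2 * z 3 * z 4 := by
  have h1 := m.prod
  have h2 : z 0 * (z 1 * z 2 * z 3 * z 4) = 1 := by rw [← h1]; group
  calc z 0 = z 0 * (z 1 * z 2 * z 3 * z 4) * (z 1 * z 2 * z 3 * z 4)⁻¹ := by group
    _ = (z 1 * z 2 * z 3 * z 4)⁻¹ := by rw [h2, one_mul]
    _ = z 4 * z 3 * z 2 * z 1 := by
        rw [mul_inv_rev, mul_inv_rev, mul_inv_rev, inv_eq_of_mul_eq_one_left (m.sq 1),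
          inv_eq_of_mul_eq_one_left (m.sq 2), inv_eq_of_mul_eq_one_left (m.sq 3),
          inv_eq_of_mul_eq_one_left (m.sq 4)]
        group
    _ = z 1 * (z 4 * z 3 * z 2) := by
        rw [show z 4 * z 3 * z 2 * z 1 = z 4 * z 3 * (z 2 * z 1) by group, m.comm 2 1,
          show z 4 * z 3 * (z 1 * z 2) = z 4 * (z 3 * z 1) * z 2 by group, m.comm 3 1,
          show z 4 * (z 1 * z 3) * z 2 = (z 4 * z 1) * z 3 * z 2 by group, m.comm 4 1]
        group
    _ = z 1 * (z 2 * (z 4 * z 3)) := by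
        rw [show z 4 * z 3 * z 2 = z 4 * (z 3 * z 2) by group, m.comm 3 2,
          show z 4 * (z 2 * z 3) = (z 4 * z 2) * z 3 by group, m.comm 4 2]
        group
    _ = z 1 * z 2 * z 3 * z 4 := by rw [m.comm 4 3]; group

theorem minus_mm : z 0 = mm ![z 1, z 2, z 3, z 4] (fun _ => true) := by
  rw [minus_zero m]; simp [mm]

theorem minus_ind : Ind ![z 1, z 2, z 3, z 4] := by
  have hne : ∀ i j : Fin 5, i ≠ j → z i * z j ≠ 1 := by
    intro i j hij h
    apply hij
    apply m.inj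
    calc z i = z i * (z j * z j) := by rw [m.sq, mul_one]
      _ = z i * z j * z j := by group
      _ = z j := by rw [h, one_mul]
  have h0 := minus_zero m
  have h3 : ∀ {x y : G}, z 0 = x * y → y = 1 → z 0 = x := by
    intro x y h1 h2
    rw [h1, h2, mul_one]
  refine ⟨?_, ?_, ?_⟩
  · intro i j
    fin_cases i <;> fin_cases j <;> exact m.comm _ _
  · intro i
    fin_cases i <;> exact m.sq _
  · intro a ha
    have hc := m.comm
    simp only [mm, Matrix.cons_val_zero, Matrix.cons_val_one, Matrix.cons_val] at ha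
    have e123 : z 0 = z 4 * (z 1 * z 2 * z 3) := by
      rw [h0, show z 4 * (z 1 * z 2 * z 3) = (z 4 * z 1) * z 2 * z 3 by group, hc 4 1,
        show z 1 * z 4 * z 2 * z 3 = z 1 * (z 4 * z 2) * z 3 by group, hc 4 2,
        show z 1 * (z 2 * z 4) * z 3 = z 1 * z 2 * (z 4 * z 3) by group, hc 4 3]
      group
    have e124 : z 0 = z 3 * (z 1 * z 2 * z 4) := by
      rw [h0, show z 3 * (z 1 * z 2 * z 4) = (z 3 * z 1) * z 2 * z 4 by group, hc 3 1,
        show z 1 * z 3 * z 2 * z 4 = z 1 * (z 3 * z 2) * z 4 by group, hc 3 2]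
      group
    have e134 : z 0 = z 2 * (z 1 * z 3 * z 4) := by
      rw [h0, show z 2 * (z 1 * z 3 * z 4) = (z 2 * z 1) * z 3 * z 4 by group, hc 2 1]
    have e234 : z 0 = z 1 * (z 2 * z 3 * z 4) := by
      rw [h0]; group
    have key : ∀ i : Fin 5, i ≠ 0 → z 0 ≠ z i := fun i hi h => hi (m.inj h).symm
    funext i
    rcases h_0 : a 0 with _ | _ <;> rcases h_1 : a 1 with _ | _ <;> rcases h_2 : a 2 with _ | _ <;>
      rcases h_3 : a 3 with _ | _ <;> rw [h_0, h_1, h_2, h_3] at ha <;>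
      simp only [cond_true, cond_false, one_mul, mul_one] at ha
    · fin_cases i <;> assumption
    · exact absurd ha (m.ne_one 4)
    · exact absurd ha (m.ne_one 3)
    · exact absurd ha (hne 3 4 (by decide))
    · exact absurd ha (m.ne_one 2)
    · exact absurd ha (hne 2 4 (by decide))
    · exact absurd ha (hne 2 3 (by decide))
    · exact absurd (h3 e234 ha) (key 1 (by decide))
    · exact absurd ha (m.ne_one 1)
    · exact absurd ha (hne 1 4 (by decide))
    · exact absurd ha (hne 1 3 (by decide))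
    · exact absurd (h3 e134 ha) (key 2 (by decide))
    · exact absurd ha (hne 1 2 (by decide))
    · exact absurd (h3 e124 ha) (key 3 (by decide))
    · exact absurd (h3 e123 ha) (key 4 (by decide))
    · exact absurd (h0.trans ha) (m.ne_one 0)

theorem minus_le {x : G} (hx : x ∈ zl S P) : ∃ a, x = mm ![z 1, z 2, z 3, z 4] a := by
  have D := minus_ind m
  apply D.exists_mm
  rw [← m.gen] at hx
  have h1 : closure (Set.range z) ≤ closure (Set.range ![z 1, z 2, z 3, z 4]) := by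
    rw [closure_le]
    rintro _ ⟨i, rfl⟩
    have h2 : ∀ i : Fin 4, ![z 1, z 2, z 3, z 4] i ∈ closure (Set.range ![z 1, z 2, z 3, z 4]) := fun i =>
      subset_closure ⟨i, rfl⟩
    fin_cases i
    · change z 0 ∈ _
      rw [minus_zero m]
      exact mul_mem (mul_mem (mul_mem (h2 0) (h2 1)) (h2 2)) (h2 3)
    · exact h2 0
    · exact h2 1
    · exact h2 2
    · exact h2 3
  exact h1 hx

theorem minus_mem (a : Fin 4 → Bool) : mm ![z 1, z 2, z 3, z 4] a ∈ zl S P := by
  have h1 : ∀ i, z i ∈ zl S P := fun i => by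
    rw [← m.gen]; exact subset_closure ⟨i, rfl⟩
  have h2 : ∀ (i : Fin 5) (x : Bool), (bif x then z i else 1) ∈ zl S P := by
    intro i x
    cases x
    · exact one_mem _
    · exact h1 i
  exact mul_mem (mul_mem (mul_mem (h2 1 _) (h2 2 _)) (h2 3 _)) (h2 4 _)

end minus

/-! ### `Plus2` -/

section plus

variable {S P : Subgroup G} {z : Fin 3 → Fin 3 → G} (m : NO1.Plus2 S P z)
include m

theorem plus_inv (i j : Fin 3) : (z i j)⁻¹ = z i j := inv_eq_of_mul_eq_one_left (m.sq i j)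

theorem plus_row (i : Fin 3) : z i 2 = z i 0 * z i 1 := by
  have h1 := m.row i
  have h2 : z i 2 = (z i 0 * z i 1)⁻¹ := eq_inv_of_mul_eq_one_right h1
  rw [h2, mul_inv_rev, plus_inv m, plus_inv m, m.comm]

theorem plus_col (j : Fin 3) : z 2 j = z 0 j * z 1 j := by
  have h1 := m.col j
  have h2 : z 2 j = (z 0 j * z 1 j)⁻¹ := eq_inv_of_mul_eq_one_right h1
  rw [h2, mul_inv_rev, plus_inv m, plus_inv m, m.comm]

theorem plus_ind : Ind ![z 0 0, z 0 1, z 1 0, z 1 1] := by
  have hne : ∀ i j k l : Fin 3, ¬ (i = k ∧ j = l) → z i j * z k l ≠ 1 := by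
    intro i j k l hij h
    apply hij
    apply m.inj
    calc z i j = z i j * (z k l * z k l) := by rw [m.sq, mul_one]
      _ = z i j * z k l * z k l := by group
      _ = z k l := by rw [h, one_mul]
  have r0 := plus_row m 0
  have r1 := plus_row m 1
  have c0 := plus_col m 0
  have c1 := plus_col m 1
  have c2 := plus_col m 2
  refine ⟨?_, ?_, ?_⟩
  · intro i j
    fin_cases i <;> fin_cases j <;> exact m.comm _ _ _ _
  · intro i
    fin_cases i <;> exact m.sq _ _
  · intro a ha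
    have hc := m.comm
    simp only [mm, Matrix.cons_val_zero, Matrix.cons_val_one, Matrix.cons_val] at ha
    funext i
    rcases h_0 : a 0 with _ | _ <;> rcases h_1 : a 1 with _ | _ <;> rcases h_2 : a 2 with _ | _ <;>
      rcases h_3 : a 3 with _ | _ <;> rw [h_0, h_1, h_2, h_3] at ha <;>
      simp only [cond_true, cond_false, one_mul, mul_one] at ha
    · fin_cases i <;> assumption
    · exact absurd ha (m.ne_one 1 1)
    · exact absurd ha (m.ne_one 1 0)
    · exact absurd ha (hne 1 0 1 1 (by decide))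
    · exact absurd ha (m.ne_one 0 1)
    · exact absurd ha (hne 0 1 1 1 (by decide))
    · exact absurd ha (hne 0 1 1 0 (by decide))
    · rw [mul_assoc, ← r1] at ha
      exact absurd ha (hne 0 1 1 2 (by decide))
    · exact absurd ha (m.ne_one 0 0)
    · exact absurd ha (hne 0 0 1 1 (by decide))
    · exact absurd ha (hne 0 0 1 0 (by decide))
    · rw [mul_assoc, ← r1] at ha
      exact absurd ha (hne 0 0 1 2 (by decide))
    · exact absurd ha (hne 0 0 0 1 (by decide))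
    · rw [← r0] at ha
      exact absurd ha (hne 0 2 1 1 (by decide))
    · rw [← r0] at ha
      exact absurd ha (hne 0 2 1 0 (by decide))
    · rw [mul_assoc, ← r0, ← r1, ← c2] at ha
      exact absurd ha (m.ne_one 2 2)

theorem plus_le {x : G} (hx : x ∈ zl S P) : ∃ a, x = mm ![z 0 0, z 0 1, z 1 0, z 1 1] a := by
  have D := plus_ind m
  apply D.exists_mm
  rw [← m.gen] at hx
  have h1 : closure (Set.range fun x : Fin 3 × Fin 3 => z x.1 x.2) ≤
      closure (Set.range ![z 0 0, z 0 1, z 1 0, z 1 1]) := by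
    rw [closure_le]
    rintro _ ⟨⟨i, j⟩, rfl⟩
    have h2 : ∀ i : Fin 4, ![z 0 0, z 0 1, z 1 0, z 1 1] i ∈ closure (Set.range ![z 0 0, z 0 1, z 1 0, z 1 1]) :=
      fun i => subset_closure ⟨i, rfl⟩
    have k00 : z 0 0 ∈ closure (Set.range ![z 0 0, z 0 1, z 1 0, z 1 1]) := h2 0
    have k01 : z 0 1 ∈ closure (Set.range ![z 0 0, z 0 1, z 1 0, z 1 1]) := h2 1
    have k10 : z 1 0 ∈ closure (Set.range ![z 0 0, z 0 1, z 1 0, z 1 1]) := h2 2
    have k11 : z 1 1 ∈ closure (Set.range ![z 0 0, z 0 1, z 1 0, z 1 1]) := h2 3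
    have k02 : z 0 2 ∈ closure (Set.range ![z 0 0, z 0 1, z 1 0, z 1 1]) := by
      rw [plus_row m]; exact mul_mem k00 k01
    have k12 : z 1 2 ∈ closure (Set.range ![z 0 0, z 0 1, z 1 0, z 1 1]) := by
      rw [plus_row m]; exact mul_mem k10 k11
    have k2 : ∀ j, z 0 j ∈ closure (Set.range ![z 0 0, z 0 1, z 1 0, z 1 1]) →
        z 1 j ∈ closure (Set.range ![z 0 0, z 0 1, z 1 0, z 1 1]) →
        z 2 j ∈ closure (Set.range ![z 0 0, z 0 1, z 1 0, z 1 1]) := by
      intro j a b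
      rw [plus_col m]; exact mul_mem a b
    change z i j ∈ _
    fin_cases i <;> fin_cases j
    · exact k00
    · exact k01
    · exact k02
    · exact k10
    · exact k11
    · exact k12
    · exact k2 0 k00 k10
    · exact k2 1 k01 k11
    · exact k2 2 k02 k12
  exact h1 hx

theorem plus_mem (a : Fin 4 → Bool) : mm ![z 0 0, z 0 1, z 1 0, z 1 1] a ∈ zl S P := by
  have h1 : ∀ i j, z i j ∈ zl S P := fun i j => by
    rw [← m.gen]; exact subset_closure ⟨(i, j), rfl⟩
  have h2 : ∀ (i j : Fin 3) (x : Bool), (bif x then z i j else 1) ∈ zl S P := by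
    intro i j x
    cases x
    · exact one_mem _
    · exact h1 i j
  exact mul_mem (mul_mem (mul_mem (h2 0 0 _) (h2 0 1 _)) (h2 1 0 _)) (h2 1 1 _)

end plus

/-- the group of all `mm z a` has order 16 -/
theorem card_of_mm {W : Subgroup G} {z : Fin 4 → G} (D : Ind z) (h1 : ∀ a, mm z a ∈ W)
    (h2 : ∀ x ∈ W, ∃ a, x = mm z a) : Nat.card W = 16 := by
  let f : (Fin 4 → Bool) → W := fun a => ⟨mm z a, h1 a⟩
  have hf : Function.Bijective f := by
    constructor
    · intro a b hab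
      exact D.inj (congrArg Subtype.val hab)
    · rintro ⟨x, hx⟩
      obtain ⟨a, rfl⟩ := h2 x hx
      exact ⟨a, rfl⟩
  rw [← Nat.card_congr (Equiv.ofBijective f hf)]
  simp

/-- an element of `R` outside `{1, z}` -/
theorem exists_of_card {R : Subgroup G} (hR : Nat.card R = 4) (z : G) : ∃ x ∈ R, x ≠ 1 ∧ x ≠ z := by
  classical
  by_contra hcon
  push Not at hcon
  have h3 : Nat.card R ≤ Nat.card Bool := by
    apply Nat.card_le_card_of_injective (fun x : R => decide ((x : G) = 1))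
    rintro ⟨x, hx⟩ ⟨y, hy⟩ hxy
    have h4 : (x = 1 ↔ y = 1) := by simpa using hxy
    apply Subtype.ext
    change x = y
    by_cases h5 : x = 1
    · rw [h5, h4.1 h5]
    · rw [hcon x hx h5, hcon y hy (fun h6 => h5 (h4.2 h6))]
  rw [hR, Nat.card_eq_fintype_card, Fintype.card_bool] at h3
  omega

namespace Core

variable {F T : Type*} [Field F] [AddCommGroup T] [Module F T]
  {V R Q X : Subgroup G} {e : F → T → F → G} {N : T → F} {B : T → T → F}

variable [Finite G] (S : Sylow 2 G) (h : Core (S : Subgroup G) V R Q X e N B) (hG : IsCharacteristicTwoType G)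
  (hZ : zc (S : Subgroup G) ≠ ⊥)

omit [Finite G] in
theorem S_le_norm_zl {P : Subgroup G} (hP : IsParS (S : Subgroup G) P) :
    (S : Subgroup G) ≤ normalizer (zl (S : Subgroup G) P : Set G) := hP.isLoc.le.trans (le_normalizer_zl _ _)

include hG in
theorem zl_le_S {P : Subgroup G} (hP : IsParS (S : Subgroup G) P) : zl (S : Subgroup G) P ≤ (S : Subgroup G) :=
  (hP.isLoc.zl_le S hG).trans ((zc_le _).trans (hP.isLoc.o2_le S))

include h hG hZ

/-- common part of `not_minus2`, `not_plus2` -/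
theorem small_step {P : Subgroup G} (hP : IsParS (S : Subgroup G) P) (hPQ : ¬ zl (S : Subgroup G) P ≤ Q)
    {z : Fin 4 → G} (D : Ind z) (h1 : ∀ a, mm z a ∈ zl (S : Subgroup G) P)
    (h2 : ∀ x ∈ zl (S : Subgroup G) P, ∃ a, x = mm z a) {s : Fin 4 → Bool} (hs : mm z s ∈ zc (S : Subgroup G))
    (hs0 : s ≠ fun _ => false) :
    ∃ a, a ≠ (fun _ => false) ∧ a ≠ s ∧ mm z a ∈ R ∧ Nat.card R = 4 ∧ mm z s ∈ R := by
  have hSW := S_le_norm_zl S hP
  have hWS := zl_le_S S hG hP
  have h3 := card_of_mm D h1 h2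
  have h4 := h.card_R_of S hG hZ hWS hSW hPQ h3
  obtain ⟨h5, -⟩ := h.R_le_of S hG hZ hWS hSW hPQ
  obtain ⟨x, hx, hx1, hx2⟩ := exists_of_card h4 (mm z s)
  obtain ⟨a, rfl⟩ := h2 x (h5 hx)
  refine ⟨a, ?_, ?_, hx, h4, h.Z_R hs⟩
  · rintro rfl
    exact hx1 Ind.mm_zero
  · rintro rfl
    exact hx2 rfl

/-- **`Minus2` is impossible.** -/
theorem not_minus2 {P : Subgroup G} (hP : IsParS (S : Subgroup G) P) {z : Fin 5 → G}
    (m : NO1.Minus2 (S : Subgroup G) P z) (hPQ : ¬ zl (S : Subgroup G) P ≤ Q) : False := by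
  have D := minus_ind m
  have hz0 : mm ![z 1, z 2, z 3, z 4] (fun _ => true) ∈ zc (S : Subgroup G) := by
    rw [← minus_mm m, m.Z]; exact mem_zpowers _
  obtain ⟨a, ha0, has, haR, hR4, hsR⟩ := h.small_step S hG hZ hP hPQ D (minus_mem m) (fun x hx => minus_le m hx)
    hz0 (by decide)
  have hst : ∀ {g : G}, g * z 0 * g⁻¹ = z 0 → ∀ x ∈ R, g * x * g⁻¹ ∈ R := by
    intro g hg x hx
    have h1 : z 0 ∈ R := by rw [minus_mm m]; exact hsR
    exact h.R_nor (h.ti S hG hZ h1 (m.ne_one 0) (by rw [hg]; exact h1)) hx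
  obtain ⟨g, -, hg⟩ := m.alt c[1, 2, 3] (by rw [Equiv.Perm.mem_alternatingGroup]; decide)
  obtain ⟨k, -, hk⟩ := m.alt c[2, 3, 4] (by rw [Equiv.Perm.mem_alternatingGroup]; decide)
  have hgz : ∀ i : Fin 4, g * ![z 1, z 2, z 3, z 4] i * g⁻¹ = mm ![z 1, z 2, z 3, z 4]
      (![![false, true, false, false], ![false, false, true, false], ![true, false, false, false],
        ![false, false, false, true]] i) := by
    have e1 : (c[1, 2, 3] : Equiv.Perm (Fin 5)) 1 = 2 := by decide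
    have e2 : (c[1, 2, 3] : Equiv.Perm (Fin 5)) 2 = 3 := by decide
    have e3 : (c[1, 2, 3] : Equiv.Perm (Fin 5)) 3 = 1 := by decide
    have e4 : (c[1, 2, 3] : Equiv.Perm (Fin 5)) 4 = 4 := by decide
    intro i
    fin_cases i
    · refine (hg 1).trans ?_
      rw [e1]; simp [mm]
    · refine (hg 2).trans ?_
      rw [e2]; simp [mm]
    · refine (hg 3).trans ?_
      rw [e3]; simp [mm]
    · refine (hg 4).trans ?_
      rw [e4]; simp [mm]
  have hkz : ∀ i : Fin 4, k * ![z 1, z 2, z 3, z 4] i * k⁻¹ = mm ![z 1, z 2, z 3, z 4]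
      (![![true, false, false, false], ![false, false, true, false], ![false, false, false, true],
        ![false, true, false, false]] i) := by
    have e1 : (c[2, 3, 4] : Equiv.Perm (Fin 5)) 1 = 1 := by decide
    have e2 : (c[2, 3, 4] : Equiv.Perm (Fin 5)) 2 = 3 := by decide
    have e3 : (c[2, 3, 4] : Equiv.Perm (Fin 5)) 3 = 4 := by decide
    have e4 : (c[2, 3, 4] : Equiv.Perm (Fin 5)) 4 = 2 := by decide
    intro i
    fin_cases i
    · refine (hk 1).trans ?_
      rw [e1]; simp [mm]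
    · refine (hk 2).trans ?_
      rw [e2]; simp [mm]
    · refine (hk 3).trans ?_
      rw [e3]; simp [mm]
    · refine (hk 4).trans ?_
      rw [e4]; simp [mm]
  have e0 : (c[1, 2, 3] : Equiv.Perm (Fin 5)) 0 = 0 := by decide
  have e0' : (c[2, 3, 4] : Equiv.Perm (Fin 5)) 0 = 0 := by decide
  have hg0 : g * z 0 * g⁻¹ = z 0 := by rw [hg, e0]
  have hk0 : k * z 0 * k⁻¹ = z 0 := by rw [hk, e0']
  have f1 := four_of hR4 D hsR haR (by decide) ha0 has hgz (hst hg0 _ haR)
  have f2 := four_of hR4 D hsR haR (by decide) ha0 has hkz (hst hk0 _ haR)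
  clear hgz hkz haR
  revert a
  decide

/-- **`Plus2` is impossible.** -/
theorem not_plus2 {P : Subgroup G} (hP : IsParS (S : Subgroup G) P) {z : Fin 3 → Fin 3 → G}
    (m : NO1.Plus2 (S : Subgroup G) P z) (hPQ : ¬ zl (S : Subgroup G) P ≤ Q) : False := by
  have D := plus_ind m
  have hz00 : z 0 0 = mm ![z 0 0, z 0 1, z 1 0, z 1 1] ![true, false, false, false] := by simp [mm]
  have hz0 : mm ![z 0 0, z 0 1, z 1 0, z 1 1] ![true, false, false, false] ∈ zc (S : Subgroup G) := by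
    rw [← hz00, m.Z]; exact mem_zpowers _
  obtain ⟨a, ha0, has, haR, hR4, hsR⟩ := h.small_step S hG hZ hP hPQ D (plus_mem m) (fun x hx => plus_le m hx)
    hz0 (by decide)
  have h00R : z 0 0 ∈ R := by rw [hz00]; exact hsR
  have hst : ∀ {g y : G}, y ∈ R → y ≠ 1 → g * y * g⁻¹ = y → ∀ x ∈ R, g * x * g⁻¹ ∈ R := by
    intro g y hy hy1 hg x hx
    exact h.R_nor (h.ti S hG hZ hy hy1 (by rw [hg]; exact hy)) hx
  have s0 : (Equiv.swap 1 2 : Equiv.Perm (Fin 3)) 0 = 0 := by decide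
  have s1 : (Equiv.swap 1 2 : Equiv.Perm (Fin 3)) 1 = 2 := by decide
  obtain ⟨g, -, hg⟩ := m.full (Equiv.swap 1 2) 1
  obtain ⟨k, -, hk⟩ := m.full 1 (Equiv.swap 1 2)
  obtain ⟨w, -, hw⟩ := m.swap
  have hgz : ∀ i : Fin 4, g * ![z 0 0, z 0 1, z 1 0, z 1 1] i * g⁻¹ = mm ![z 0 0, z 0 1, z 1 0, z 1 1]
      (![![true, false, false, false], ![false, true, false, false], ![true, false, true, false],
        ![false, true, false, true]] i) := by
    intro i
    fin_cases i
    · refine (hg 0 0).trans ?_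
      rw [s0]; simp [mm]
    · refine (hg 0 1).trans ?_
      rw [s0]; simp [mm]
    · refine (hg 1 0).trans ?_
      rw [s1, Equiv.Perm.one_apply, plus_col m]; simp [mm]
    · refine (hg 1 1).trans ?_
      rw [s1, Equiv.Perm.one_apply, plus_col m]; simp [mm]
  have hkz : ∀ i : Fin 4, k * ![z 0 0, z 0 1, z 1 0, z 1 1] i * k⁻¹ = mm ![z 0 0, z 0 1, z 1 0, z 1 1]
      (![![true, false, false, false], ![true, true, false, false], ![false, false, true, false],
        ![false, false, true, true]] i) := by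
    intro i
    fin_cases i
    · refine (hk 0 0).trans ?_
      rw [s0]; simp [mm]
    · refine (hk 0 1).trans ?_
      rw [s1, Equiv.Perm.one_apply, plus_row m]; simp [mm]
    · refine (hk 1 0).trans ?_
      rw [s0]; simp [mm]
    · refine (hk 1 1).trans ?_
      rw [s1, Equiv.Perm.one_apply, plus_row m]; simp [mm]
  have hwz : ∀ i : Fin 4, w * ![z 0 0, z 0 1, z 1 0, z 1 1] i * w⁻¹ = mm ![z 0 0, z 0 1, z 1 0, z 1 1]
      (![![true, false, false, false], ![false, false, true, false], ![false, true, false, false],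
        ![false, false, false, true]] i) := by
    intro i
    fin_cases i
    · refine (hw 0 0).trans ?_
      simp [mm]
    · refine (hw 0 1).trans ?_
      simp [mm]
    · refine (hw 1 0).trans ?_
      simp [mm]
    · refine (hw 1 1).trans ?_
      simp [mm]
  have f1 := four_of hR4 D hsR haR (by decide) ha0 has hgz
    (hst h00R (m.ne_one 0 0) (by rw [hg, s0]; rfl) _ haR)
  have f2 := four_of hR4 D hsR haR (by decide) ha0 has hkz
    (hst h00R (m.ne_one 0 0) (by rw [hk, s0]; rfl) _ haR)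
  have f3 := four_of hR4 D hsR haR (by decide) ha0 has hwz
    (hst h00R (m.ne_one 0 0) (hw 0 0) _ haR)
  -- `z01 z10 ∈ R`
  have hc : mm ![z 0 0, z 0 1, z 1 0, z 1 1] ![false, true, true, false] ∈ R := by
    have h1 : a = ![false, true, true, false] ∨ a = ![true, true, true, false] := by
      clear hgz hkz hwz haR
      revert a
      decide
    rcases h1 with h1 | h1
    · rw [← h1]; exact haR
    · have h2 : ad a ![true, false, false, false] = ![false, true, true, false] := by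
        rw [h1]; decide
      rw [← h2, ← D.mm_mul]
      exact mul_mem haR hsR
  have hne : mm ![z 0 0, z 0 1, z 1 0, z 1 1] ![false, true, true, false] ≠ 1 := by
    intro h1
    exact absurd (D.ind _ h1) (by decide)
  -- the element exchanging `z00` and `z11`
  have t0 : (Equiv.swap 0 1 : Equiv.Perm (Fin 3)) 0 = 1 := by decide
  have t1 : (Equiv.swap 0 1 : Equiv.Perm (Fin 3)) 1 = 0 := by decide
  obtain ⟨n, -, hn⟩ := m.full (Equiv.swap 0 1) (Equiv.swap 0 1)
  have hnz : ∀ i : Fin 4, n * ![z 0 0, z 0 1, z 1 0, z 1 1] i * n⁻¹ = mm ![z 0 0, z 0 1, z 1 0, z 1 1]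
      (![![false, false, false, true], ![false, false, true, false], ![false, true, false, false],
        ![true, false, false, false]] i) := by
    intro i
    fin_cases i
    · refine (hn 0 0).trans ?_
      rw [t0]; simp [mm]
    · refine (hn 0 1).trans ?_
      rw [t0, t1]; simp [mm]
    · refine (hn 1 0).trans ?_
      rw [t0, t1]; simp [mm]
    · refine (hn 1 1).trans ?_
      rw [t1]; simp [mm]
  have hnc : n * mm ![z 0 0, z 0 1, z 1 0, z 1 1] ![false, true, true, false] * n⁻¹ =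
      mm ![z 0 0, z 0 1, z 1 0, z 1 1] ![false, true, true, false] := by
    rw [D.conj hnz]
    congr 1
    decide
  have f4 := four_of hR4 D hsR hc (by decide) (by decide) (by decide) hnz (hst hc hne hnc _ hsR)
  revert f4
  decide

end Core

end Cfsg.Agent.Omega.All.NOne

end

section


/-!
# THEOREM ALL-N1: the type `Nat4` does not coexist with `Core` (bb #16847 (4), helper983, helper940)

`V' = zl S P = F₄²`, `V' ≰ Q`: the transvections of `SL₂(4)` fixing `Z` normalise `R` (TI), so `R` is the `F₄`-point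
of `Z`; the torus normalises `R`, `Q` and `V' ∩ Q`, so `V' ≤ Q`.
-/

set_option autoImplicit false
set_option linter.unusedSectionVars false

namespace Cfsg.Agent.Omega.All.NOne

open Subgroup Cfsg Cfsg.Agent.ZN Cfsg.Agent.Omega.MinPar
open Cfsg.Agent.Omega.FrameFF (NatOver)
open Cfsg.Agent.Omega.NatPair (ap dt dt_add dt_smul exists_smul_of_dt exists_comb)

universe u

variable {G : Type u} [Group G]

/-- `NatOver`, `D = 1`: `e` is injective on `V`. -/
theorem natOver_inj {F : Type} [Field F] {N V : Subgroup G} (M : NatOver F N V ⊥) {v w : G} (hv : v ∈ V)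
    (hw : w ∈ V) (h : M.e v = M.e w) : v = w := by
  have h1 : M.e 1 = 0 := (M.ker 1 (one_mem V)).2 (one_mem _)
  have h2 : M.e w + M.e w⁻¹ = 0 := by
    rw [← M.mul w hw _ (inv_mem hw), mul_inv_cancel, h1]
  have h3 : M.e (v * w⁻¹) = 0 := by
    rw [M.mul v hv _ (inv_mem hw), h, h2]
  have h4 := (M.ker _ (mul_mem hv (inv_mem hw))).1 h3
  rw [mem_bot] at h4
  exact mul_inv_eq_one.1 h4

/-- `|V| = |F|²` -/
theorem natOver_card {F : Type} [Field F] [Finite F] {N V : Subgroup G} (M : NatOver F N V ⊥) :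
    Nat.card V = Nat.card F ^ 2 := by
  have h1 : Function.Bijective (fun v : V => M.e v.1) := by
    constructor
    · intro v w hvw
      exact Subtype.ext (natOver_inj M v.2 w.2 hvw)
    · intro x
      obtain ⟨v, hv, h⟩ := M.surj x
      exact ⟨⟨v, hv⟩, h⟩
  rw [Nat.card_congr (Equiv.ofBijective _ h1), Nat.card_fun, Nat.card_eq_fintype_card (α := Fin 2),
    Fintype.card_fin]

namespace Core

variable {F T : Type*} [Field F] [AddCommGroup T] [Module F T]
  {V R Q X : Subgroup G} {e : F → T → F → G} {N : T → F} {B : T → T → F}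

variable [Finite G] (S : Sylow 2 G) (h : Core (S : Subgroup G) V R Q X e N B) (hG : IsCharacteristicTwoType G)
  (hZ : zc (S : Subgroup G) ≠ ⊥)
include h hG hZ

/-- another `P' ∈ P*(S)` is not of type `Nat4` (unless `V_P' ≤ Q`) -/
theorem not_nat4 {P : Subgroup G} (hP : IsParS (S : Subgroup G) P) (h4 : NO1.Nat4 (S : Subgroup G) P)
    (hPQ : ¬ zl (S : Subgroup G) P ≤ Q) : False := by
  obtain ⟨F', iF, iFin, iCh, hc4, ⟨M⟩⟩ := h4.nat
  set W := zl (S : Subgroup G) P with hW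
  have hPW : P ≤ normalizer (W : Set G) := le_normalizer_zl _ _
  have hSW : (S : Subgroup G) ≤ normalizer (W : Set G) := hP.isLoc.le.trans hPW
  have hWS : W ≤ (S : Subgroup G) :=
    (hP.isLoc.zl_le S hG).trans ((zc_le _).trans (hP.isLoc.o2_le S))
  have hWc : Nat.card W = 16 := by rw [natOver_card M, hc4]; norm_num
  have hR4 : Nat.card R = 4 := h.card_R_of S hG hZ hWS hSW hPQ hWc
  obtain ⟨hRW, w, hwW, hwQ, hwR⟩ := h.R_le_of S hG hZ hWS hSW hPQ
  obtain ⟨z, hz1⟩ := Subgroup.ne_bot_iff_exists_ne_one.1 hZ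
  have hz1' : (z : G) ≠ 1 := fun h0 => hz1 (Subtype.ext h0)
  have hzR : (z : G) ∈ R := h.Z_R z.2
  have hzW : (z : G) ∈ W := hRW hzR
  have hPc : ∀ {g v : G}, g ∈ P → v ∈ W → g * v * g⁻¹ ∈ W := fun hg hv =>
    (mem_normalizer_iff.1 (hPW hg) _).1 hv
  set x0 := M.e z with hx0
  have hx0n : x0 ≠ 0 := by
    intro h0
    have h1 := (M.ker z hzW).1 h0
    exact hz1' ((mem_bot).1 h1)
  have hdd : dt x0 x0 = 0 := by unfold dt; ring
  have finF : Finite (Option F') := inferInstance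
  have hO : Nat.card (Option F') = 5 := by rw [Finite.card_option, hc4]
  -- `e a ∈ F' x0` for `a ∈ R`
  have claim1 : ∀ a ∈ R, dt x0 (M.e a) = 0 := by
    intro a ha
    by_contra hd
    have h1 : ∀ c : F', ∃ r ∈ R, M.e r = M.e a + c • x0 := by
      intro c
      have h2 : dt x0 (M.e a + c • x0) = dt x0 (M.e a) := by
        rw [dt_add, dt_smul, hdd, mul_zero, add_zero]
      obtain ⟨A, hA1, hA2⟩ := NatPair.NormExc.exists_ap2 hd h2
      obtain ⟨g, hg, hg', -⟩ := M.lift A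
      have h3 : g * z * g⁻¹ = z := by
        apply natOver_inj M (hPc hg hzW) hzW
        rw [hg' z hzW, ← hx0, hA1]
      have h4 : g ∈ normalizer (R : Set G) := by
        apply h.ti S hG hZ hzR hz1'
        rw [h3]; exact hzR
      exact ⟨g * a * g⁻¹, h.R_nor h4 ha, by rw [hg' a (hRW ha), hA2]⟩
    choose r hr hr' using h1
    let f : Option F' → R := fun o => o.elim ⟨1, one_mem _⟩ fun c => ⟨r c, hr c⟩
    have hf : Function.Injective f := by
      have hne : ∀ c, r c ≠ 1 := by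
        intro c h0
        apply hd
        have h5 := hr' c
        rw [h0, (M.ker 1 (one_mem _)).2 (one_mem _)] at h5
        have h6 : dt x0 (M.e a + c • x0) = dt x0 (M.e a) := by
          rw [dt_add, dt_smul, hdd, mul_zero, add_zero]
        rw [← h6, ← h5]
        unfold dt; simp
      intro o o' hoo
      rcases o with _ | c <;> rcases o' with _ | c'
      · rfl
      · exact absurd (congrArg Subtype.val hoo).symm (hne c')
      · exact absurd (congrArg Subtype.val hoo) (hne c)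
      · have h5 : r c = r c' := congrArg Subtype.val hoo
        have h6 : c • x0 = c' • x0 := by
          have h7 := hr' c
          rw [h5, hr' c'] at h7
          exact (add_left_cancel h7).symm
        rw [smul_left_injective F' hx0n h6]
    have := Nat.card_le_card_of_injective f hf
    rw [hO, hR4] at this
    omega
  -- `R` is the whole point
  have claim2 : ∀ v ∈ W, dt x0 (M.e v) = 0 → v ∈ R := by
    intro v hv hd
    by_contra hvR
    have h1 : ∀ o : Option R, ∃ c : F', (o.elim (M.e v) fun a => M.e a) = c • x0 := by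
      intro o
      apply exists_smul_of_dt hx0n
      rcases o with _ | a
      · exact hd
      · exact claim1 a a.2
    choose c hc using h1
    have hf : Function.Injective c := by
      intro o o' hoo
      have h2 := hc o
      rw [hoo, ← hc o'] at h2
      rcases o with _ | a <;> rcases o' with _ | a'
      · rfl
      · exact absurd (by rw [natOver_inj M hv (hRW a'.2) h2]; exact a'.2) hvR
      · exact absurd (by rw [← natOver_inj M (hRW a.2) hv h2]; exact a.2) hvR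
      · rw [Subtype.ext (natOver_inj M (hRW a.2) (hRW a'.2) h2)]
    have h3 := Nat.card_le_card_of_injective c hf
    rw [Finite.card_option, hR4, hc4] at h3
    omega
  -- the torus
  set y0 := M.e w with hy0
  have hd : dt x0 y0 ≠ 0 := fun h0 => hwR (claim2 w hwW h0)
  obtain ⟨l, hl0, hl1⟩ : ∃ l : F', l ≠ 0 ∧ l ≠ 1 := by
    by_contra hcon
    push Not at hcon
    classical
    have h1 : Function.Injective (fun x : F' => decide (x = 0)) := by
      intro x y hxy
      replace hxy : (x = 0) ↔ (y = 0) := decide_eq_decide.1 hxy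
      by_cases hx : x = 0
      · rw [hx, hxy.1 hx]
      · have hy : y ≠ 0 := fun h0 => hx (hxy.2 h0)
        rw [hcon x hx, hcon y hy]
    have h2 := Nat.card_le_card_of_injective _ h1
    rw [hc4, Nat.card_eq_fintype_card, Fintype.card_bool] at h2
    omega
  have h2 : dt (l • x0) (l⁻¹ • y0) = dt x0 y0 := by
    have : dt (l • x0) (l⁻¹ • y0) = l * l⁻¹ * dt x0 y0 := by
      unfold dt; simp only [Pi.smul_apply, smul_eq_mul]; ring
    rw [this, mul_inv_cancel₀ hl0, one_mul]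
  obtain ⟨A, hA1, hA2⟩ := NatPair.NormExc.exists_ap2 hd h2
  obtain ⟨g, hg, hg', -⟩ := M.lift A
  have hgR : g ∈ normalizer (R : Set G) := by
    apply h.ti S hG hZ hzR hz1'
    apply claim2 _ (hPc hg hzW)
    rw [hg' z hzW, ← hx0, hA1, dt_smul, hdd, mul_zero]
  have hw2 : g * w * g⁻¹ ∈ W ⊓ Q := ⟨hPc hg hwW, h.Q_nor hgR hwQ⟩
  have hw2e : M.e (g * w * g⁻¹) = l⁻¹ • y0 := by rw [hg' w hwW, ← hy0, hA2]
  -- all multiples of `y0`
  have hmul : ∀ c : F', ∃ v ∈ W ⊓ Q, M.e v = c • y0 := by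
    have hlist : ∀ c : F', c = 0 ∨ c = 1 ∨ c = l⁻¹ ∨ c = 1 + l⁻¹ := by
      intro c
      have := Fintype.ofFinite F'
      classical
      have hli0 : l⁻¹ ≠ 0 := inv_ne_zero hl0
      have hli1 : l⁻¹ ≠ 1 := fun h0 => hl1 (inv_eq_one.1 h0)
      have e2 : ∀ x : F', x + x = 0 := fun x => CharTwo.add_self_eq_zero x
      have h7 : ({0, 1, l⁻¹, 1 + l⁻¹} : Finset F') = Finset.univ := by
        apply Finset.eq_univ_of_card
        rw [← Nat.card_eq_fintype_card, hc4, Finset.card_insert_of_notMem, Finset.card_insert_of_notMem,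
          Finset.card_insert_of_notMem, Finset.card_singleton]
        · rw [Finset.mem_singleton]
          intro h0
          exact one_ne_zero (right_eq_add.1 h0)
        · rw [Finset.mem_insert, Finset.mem_singleton]
          push Not
          exact ⟨hli1.symm, fun h0 => hli0 (left_eq_add.1 h0)⟩
        · rw [Finset.mem_insert, Finset.mem_insert, Finset.mem_singleton]
          push Not
          refine ⟨zero_ne_one, hli0.symm, fun h0 => hli1 ?_⟩
          have h8 := e2 1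
          calc l⁻¹ = 0 + l⁻¹ := by rw [zero_add]
            _ = (1 + 1) + l⁻¹ := by rw [h8]
            _ = 1 + (1 + l⁻¹) := by rw [add_assoc]
            _ = 1 := by rw [← h0, add_zero]
      have h8 : c ∈ ({0, 1, l⁻¹, 1 + l⁻¹} : Finset F') := by rw [h7]; exact Finset.mem_univ _
      rwa [Finset.mem_insert, Finset.mem_insert, Finset.mem_insert, Finset.mem_singleton] at h8
    have hwWQ : w ∈ W ⊓ Q := ⟨hwW, hwQ⟩
    intro c
    rcases hlist c with rfl | rfl | rfl | rfl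
    · exact ⟨1, one_mem _, by rw [zero_smul]; exact (M.ker 1 (one_mem _)).2 (one_mem _)⟩
    · exact ⟨w, hwWQ, by rw [one_smul]⟩
    · exact ⟨_, hw2, hw2e⟩
    · exact ⟨w * (g * w * g⁻¹), mul_mem hwWQ hw2, by rw [M.mul w hwW _ hw2.1, hw2e, add_smul, one_smul]⟩
  apply hPQ
  intro v hv
  obtain ⟨a, b, hab⟩ := exists_comb hd (M.e v)
  obtain ⟨v1, hv1, hv1e⟩ := M.surj (a • x0)
  obtain ⟨v2, hv2, hv2e⟩ := hmul b
  have hv1R : v1 ∈ R := by
    apply claim2 v1 hv1
    rw [hv1e, dt_smul, hdd, mul_zero]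
  have h5 : v = v1 * v2 := by
    apply natOver_inj M hv (mul_mem hv1 hv2.1)
    rw [M.mul v1 hv1 v2 hv2.1, hv1e, hv2e, hab]
  rw [h5]
  exact mul_mem (h.R_Q hv1R) hv2.2

end Core

end Cfsg.Agent.Omega.All.NOne

end

section


/-!
# THEOREM NAT (#13408), the output of (0)-(3)

`Cfg S P`, `V = zl S P` one natural `SL₂(F)`-module.  Then `V` is of type `Nat4` (case (α)) or `Quad`:

* `C = C_G(z)`, `Z = ⟨z⟩`, `Q = O₂(C)`, `V₁ = V ∩ Q = C_V(U)` of order 4, `|V| = 16`, `V₁ ≤ Z(Q)`;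
* `H = C_G(V₁)`: `|N_G(V₁) / H| = 6`, `V, Q ≤ O₂(H)`;
* `S ∩ H` induces on `V` the Sylow 2-subgroup `U` of `SL₂(4)`: `[V, x] = V₁ = C_V(x)` for
  `x ∈ S ∩ H`, `[V, x] ≠ 1`;
* `W₀ = ⟨V₁^C⟩` (`ncl C V₁`) : `W₀ ≤ Z(Q)`, `[v, W₀] = V₁` for `v ∈ V - V₁`;
* `t ∈ P` of odd order acts on `V` as `diag(λ, λ⁻¹)`, `λ ≠ 1`.
-/

set_option autoImplicit false
set_option linter.unusedSectionVars false

namespace Cfsg.Agent.Omega.NO1.NatA

open Subgroup Cfsg Cfsg.Agent.ZN Cfsg.Agent.Omega.MinPar Cfsg.Agent.Omega.Frame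
open Cfsg.Agent.Omega.FFThm (NatK)
open Cfsg.Agent.Omega.NOne.NearFF (Fin)

universe u

section defs

variable {G : Type u} [Group G]

/-- `⟨A^C⟩` -/
def ncl (C A : Subgroup G) : Subgroup G := closure {x | ∃ c ∈ C, ∃ a ∈ A, x = c * a * c⁻¹}

/-- **The output of (0)-(3) of THEOREM NAT in the quadratic case.** -/
structure Quad [Finite G] (S : Sylow 2 G) (P : Subgroup G) (z : G) (V V₁ C Q : Subgroup G) : Prop where
  cfg : Cfg S P
  V_eq : V = zl (S : Subgroup G) P
  C_eq : C = centralizer {z}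
  CC_eq : C = NoFF.LinesPlug.CC (S : Subgroup G)
  Q_eq : Q = o2 C
  V1_eq : V₁ = V ⊓ Q
  Z_eq : zc (S : Subgroup G) = zpowers z
  z_ne : z ≠ 1
  z_sq : z * z = 1
  z_mem : z ∈ V₁
  card_V : Nat.card V = 16
  card_V1 : Nat.card V₁ = 4
  /-- `V` is a natural `SL₂(4)`-module, `V₁ = {x 1 = 0}` -/
  nat : ∃ (F : Type) (_ : Field F) (_ : Finite F) (_ : CharP F 2) (M : NatK F (S : Subgroup G) P V ⊥ 1),
    Nat.card F = 4 ∧ ∀ v ∈ V, M.e v 0 1 = 0 ↔ v ∈ V₁
  /-- `P` is transitive on `V - 1` -/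
  trans : ∀ v ∈ V, v ≠ 1 → ∀ w ∈ V, w ≠ 1 → ∃ p ∈ P, p * v * p⁻¹ = w
  /-- `V₁` is normal in `S` -/
  S_le : (S : Subgroup G) ≤ normalizer (V₁ : Set G)
  /-- `Q ≤ H` -/
  Q_le : Q ≤ centralizer (V₁ : Set G)
  /-- `V ≤ R = O₂(H)` -/
  V_le_R : V ≤ o2 (centralizer (V₁ : Set G))
  /-- `Q ≤ R` -/
  Q_le_R : Q ≤ o2 (centralizer (V₁ : Set G))
  /-- `|N_G(V₁) / H| = 6` -/
  index : (centralizer (V₁ : Set G)).relIndex (normalizer (V₁ : Set G)) = 6
  /-- `S ≰ H` -/
  S_not_le : ¬ (S : Subgroup G) ≤ centralizer (V₁ : Set G)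
  /-- `[V, S ∩ H] ≤ V₁` -/
  comm : ∀ x ∈ (S : Subgroup G), x ∈ centralizer (V₁ : Set G) → ∀ v ∈ V, v * x * v⁻¹ * x⁻¹ ∈ V₁
  /-- `C_V(x) ≤ V₁` for `x ∈ S ∩ H` with `[V, x] ≠ 1` -/
  reg : ∀ x ∈ (S : Subgroup G), x ∈ centralizer (V₁ : Set G) → x ∉ centralizer (V : Set G) →
    ∀ v ∈ V, v * x = x * v → v ∈ V₁
  /-- `[V, x] = V₁` for `x ∈ S ∩ H` with `[V, x] ≠ 1` -/
  surj : ∀ x ∈ (S : Subgroup G), x ∈ centralizer (V₁ : Set G) → x ∉ centralizer (V : Set G) →
    ∀ e ∈ V₁, ∃ v ∈ V, v * x * v⁻¹ * x⁻¹ = e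
  /-- `[v, W₀] = V₁` for `v ∈ V - V₁` -/
  full : ∀ v ∈ V, v ∉ V₁ → ∀ e ∈ V₁, ∃ w ∈ ncl C V₁, v * w * v⁻¹ * w⁻¹ = e
  /-- `W₀ ≤ Z(Q)` -/
  W_le : ncl C V₁ ≤ Q ⊓ centralizer (Q : Set G)
  /-- `W₀² = 1` -/
  W_sq : ∀ w ∈ ncl C V₁, w * w = 1
  /-- `|W₀ : C_{W₀}(V)| = 4` -/
  W_index : (centralizer (V : Set G)).relIndex (ncl C V₁) = 4
  /-- a frame at every `v ∈ V - V₁`, `D = Z` -/
  frame : ∀ v ∈ V, v ∉ V₁ → ∃ g ∈ C, Fin V Q v g ∧
    V₁ ⊓ V₁.map (MulAut.conj g).toMonoidHom = zpowers z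
  /-- an element of odd order of `P` acting as `diag(λ, λ⁻¹)`, `λ ≠ 1` -/
  tor : ∃ t ∈ P, Odd (orderOf t) ∧ t ∈ normalizer (V₁ : Set G) ∧
    (∀ v ∈ V, t ^ 3 * v = v * t ^ 3) ∧ (∀ v ∈ V₁, t * v = v * t → v = 1) ∧
    ∀ v ∈ V, t * v * t⁻¹ * v⁻¹ ∈ V₁ → v ∈ V₁

end defs

end Cfsg.Agent.Omega.NO1.NatA

end
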