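import Cfsg.Agent.Mrg.Omega.Node.NO1
import Cfsg.Agent.Mrg.Omega.NO1.JOff
import Cfsg.Agent.Mrg.Omega.NO1.WRF.Irr
import Cfsg.Agent.Mrg.Omega.Spread.ElatOf
import Cfsg.Agent.Mrg.Omega.NOne.Flat.OffMod


/-!
# N1, (BT), `V_P` without offender: the frame of TEXT B4 (#15506) and the new cut of `BTNot`

* `Fr S P M F` : `V = zl S M` (LEMMA J, `JMin.Inv`), no offender on `V`, `F` a maximal bad subgroup of `V`
  (`Flat.Hyp`), `W_F ≤ S`, `W_F ≰ O₂(P)`, `V_P ≰ E_F`;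
* `exists_fr` : `Cfg S P`, `NoOff S P` give a frame;
* `PlusAt S P E` : (+) : `p ∈ P`, `1 ≠ z ∈ Z`, `z^p ∈ E` imply that `⟨S, p⟩ ≠ P` (`p` fixes the point of `S`);
* `FrPlus`, `FrFour`, `FrTwo` and `btNot_of_fr : FrPlus → FrFour → FrTwo → BTNot`.
-/

set_option autoImplicit false
set_option linter.unusedSectionVars false

namespace Cfsg.Agent.Omega.NO1

open Subgroup Cfsg Cfsg.Agent.ZN Cfsg.Agent.Omega.MinPar Cfsg.Agent.Omega.Frame
open Cfsg.Agent.Omega.FFThm (OffM)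
open Cfsg.Agent.Omega.NOne.Flat (Hyp Bad WW)
open Cfsg.Agent.Omega.NO1.WRF.Irr (FDat fdat_of_hyp)

universe u

/-- A frame of TEXT B4. -/
structure Fr {G : Type u} [Group G] [Finite G] (S : Sylow 2 G) (P M F : Subgroup G) : Prop where
  cfg : Cfg S P
  noff : NoOff (S : Subgroup G) P
  /-- LEMMA J -/
  inv : JMin.Inv (S : Subgroup G) P M
  noffV : ∀ A : Subgroup G, A ≤ normalizer (zl (S : Subgroup G) M : Set G) → ¬ OffM (zl (S : Subgroup G) M) A
  hyp : Hyp (zl (S : Subgroup G) M) F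
  W_le_S : WW (zl (S : Subgroup G) M) F ≤ S
  W_not : ¬ WW (zl (S : Subgroup G) M) F ≤ o2 P
  /-- THEOREM OFF -/
  not_le : ¬ zl (S : Subgroup G) P ≤ NOne.Flat.EE (zl (S : Subgroup G) M) F

section

variable {G : Type u} [Group G] [Finite G] {S : Sylow 2 G} {P M F : Subgroup G}

theorem bad_zc (h : Cfg S P) {V : Subgroup G} (hV : zl (S : Subgroup G) P ≤ V) :
    Bad V (zc (S : Subgroup G)) := by
  refine ⟨fun h1 => ?_, h.Z_le_V.trans hV, fun h1 => h.one.not_le (hV.trans h1)⟩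
  have h2 := MinSimple.Basic.zc_ne_bot S.isPGroup' (h.ctx.sylow_ne_bot S)
  exact h2 h1

/-- **The frame exists.** -/
theorem exists_fr (h : Cfg S P) (hoff : NoOff (S : Subgroup G) P) : ∃ M F : Subgroup G, Fr S P M F := by
  obtain ⟨M, hM, hnoV, hF⟩ := JMin.exists_flat h.ctx.char2 h.one.star hoff
  have hVP : zl (S : Subgroup G) P ≤ zl (S : Subgroup G) M := JMin.zl_mono hM.PM
  obtain ⟨F, hy, hWS, hWP⟩ := hF ⟨_, bad_zc h hVP⟩
  refine ⟨M, F, h, hoff, hM, hnoV, hy, hWS, hWP, ?_⟩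
  refine hy.not_le_EE (fun _ h1 h2 => hy.off_all h1 h2) (hoff _ (hWS.trans h.S_le)) fun h1 => hWP ?_
  exact (le_inf hWS h1).trans h.S_inf_centralizer.le

namespace Fr

variable (h : Fr S P M F)
include h

theorem VP_le : zl (S : Subgroup G) P ≤ zl (S : Subgroup G) M := JMin.zl_mono h.inv.PM

/-- The frame `(V_P; V_P ∩ E_F, V_P ∩ F, W_F)`. -/
theorem fdat : FDat S P (zl (S : Subgroup G) P ⊓ NOne.Flat.EE (zl (S : Subgroup G) M) F)
    (zl (S : Subgroup G) P ⊓ F) (WW (zl (S : Subgroup G) M) F) :=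
  fdat_of_hyp h.hyp h.cfg h.VP_le h.W_le_S h.not_le

end Fr

end

/-- **(+)** for the subgroup `E` of `V_P`: `z^p ∈ E` for some `1 ≠ z ∈ Z` implies that `p` fixes the point of
`S`. -/
def PlusAt {G : Type u} [Group G] (S P E : Subgroup G) : Prop :=
  ∀ p ∈ P, ∀ z ∈ zc S, z ≠ 1 → p * z * p⁻¹ ∈ E → S ⊔ zpowers p ≠ P

/-- (+) ⟹ `MinusQ` or `Minus2` (text #17521, helper438; `Omega/NO1/HE/`). -/
def FrPlus : Prop :=
  ∀ (G : Type u) [Group G] [Finite G] (S : Sylow 2 G) (P M F : Subgroup G), Fr S P M F →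
    PlusAt (S : Subgroup G) P (NOne.Flat.EE (zl (S : Subgroup G) M) F) → Ty (S : Subgroup G) P

/-- Not (+), `|V_P : V_P ∩ E_F| ≥ 4` (THEOREM COMP #17539 and CARD N1-ONE #17954). -/
def FrFour : Prop :=
  ∀ (G : Type u) [Group G] [Finite G] (S : Sylow 2 G) (P M F : Subgroup G), Fr S P M F →
    ¬ PlusAt (S : Subgroup G) P (NOne.Flat.EE (zl (S : Subgroup G) M) F) →
    4 ≤ (NOne.Flat.EE (zl (S : Subgroup G) M) F).relIndex (zl (S : Subgroup G) P) → Ty (S : Subgroup G) P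

/-- Not (+), `|V_P : V_P ∩ E_F| = 2`; by `BTAbs` we may assume that `|Z| ≥ 4` or
`|V_P : V_P ∩ O₂(C_G(Z))| ≥ 4`. -/
def FrTwo : Prop :=
  ∀ (G : Type u) [Group G] [Finite G] (S : Sylow 2 G) (P M F : Subgroup G), Fr S P M F →
    ¬ PlusAt (S : Subgroup G) P (NOne.Flat.EE (zl (S : Subgroup G) M) F) →
    (NOne.Flat.EE (zl (S : Subgroup G) M) F).relIndex (zl (S : Subgroup G) P) = 2 →
    (Nat.card (zc (S : Subgroup G)) ≠ 2 ∨ 4 ≤ (EE (S : Subgroup G) P).relIndex (zl (S : Subgroup G) P)) →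
    Ty (S : Subgroup G) P

theorem relIndex_two_or {G : Type u} [Group G] [Finite G] {S : Sylow 2 G} {P : Subgroup G} (h : Cfg S P)
    {E : Subgroup G} (hE : ¬ zl (S : Subgroup G) P ≤ E) :
    E.relIndex (zl (S : Subgroup G) P) = 2 ∨ 4 ≤ E.relIndex (zl (S : Subgroup G) P) := by
  have : Fact (Nat.Prime 2) := ⟨Nat.prime_two⟩
  obtain ⟨k, hk⟩ := IsPGroup.iff_card.1 h.V_isPGroup
  have h1 : E.relIndex (zl (S : Subgroup G) P) ∣ 2 ^ k := by
    rw [← hk]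
    exact relIndex_dvd_card _ _
  obtain ⟨j, -, hj⟩ := (Nat.dvd_prime_pow Nat.prime_two).1 h1
  rcases j with _ | _ | j
  · exfalso
    rw [pow_zero, relIndex_eq_one] at hj
    exact hE hj
  · left; rw [hj]; norm_num
  · right
    rw [hj]
    calc 4 = 2 ^ 2 := by norm_num
      _ ≤ 2 ^ (j + 1 + 1) := Nat.pow_le_pow_right (by norm_num) (by omega)

end Cfsg.Agent.Omega.NO1
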