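import Cfsg.Agent.Mrg.Omega.NO1.Fr
import Cfsg.Agent.Mrg.Omega.NO1.JOff
import Cfsg.Agent.Mrg.Omega.NearFF.SymPlusSp


/-!
# N1, (BT): the cut of `BTNot` along the frames of TEXT B4

`btNot_of_fr : FrPlus → FrFour → FrTwo → BTNot`.
-/

set_option autoImplicit false
set_option linter.unusedSectionVars false

namespace Cfsg.Agent.Omega.NO1

open Subgroup Cfsg Cfsg.Agent.ZN Cfsg.Agent.Omega.MinPar Cfsg.Agent.Omega.Frame
open Cfsg.Agent.Omega.Transv Cfsg.Agent.Omega.NearFF TwoG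

universe u

/-- `|Z| = 2`, `|V_P : E| = 2` (`BTAbs`, closed). -/
theorem ty_two {G : Type u} [Group G] [Finite G] {S : Sylow 2 G} {P : Subgroup G} (h : Cfg S P)
    (hoff : NoOff (S : Subgroup G) P) (hZ : Nat.card (zc (S : Subgroup G)) = 2)
    (hA : (EE (S : Subgroup G) P).relIndex (zl (S : Subgroup G) P) = 2) : Ty (S : Subgroup G) P := by
  obtain ⟨z, hz1, hz2, hz3⟩ := exists_z (S := S) hZ
  have hz : Zd S z := ⟨hz1, hz2, hz3⟩
  have hE : (Ex (zl (S : Subgroup G) P) z).relIndex (zl (S : Subgroup G) P) = 2 := by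
    rw [← EE_of_Zd hz]
    exact hA
  obtain ⟨Y, M, _, _, _, _, _, T, Mx, ⟨R⟩⟩ := h.exists_rep
  let _ : Module (ZMod 2) M := AddCommGroup.zmodModule fun m => by rw [two_nsmul]; exact R.two m
  obtain ⟨m, hm⟩ := R.surj z (h.Z_le_V hz.mem)
  obtain ⟨BB, hD⟩ := exists_dat h R hz hm hE hoff
  obtain ⟨w, w1, w2, w3, w4, w5, w6⟩ := PlusFam.five' hD (btAbs Y M T Mx m _ _ BB hD)
  exact Ty.minus2 _ (R.minus2 hz hm w1 w2 w3 w4 w5 w6)

/-- **The cut of `BTNot`.** -/
theorem btNot_of_fr (h1 : FrPlus.{u}) (h4 : FrFour.{u}) (h2 : FrTwo.{u}) : BTNot.{u} := by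
  intro G _ _ S P h hoff
  obtain ⟨M, F, hf⟩ := exists_fr h hoff
  by_cases hp : PlusAt (S : Subgroup G) P (NOne.Flat.EE (zl (S : Subgroup G) M) F)
  · exact h1 G S P M F hf hp
  · rcases relIndex_two_or h hf.not_le with h3 | h3
    · by_cases hZ : Nat.card (zc (S : Subgroup G)) = 2
      · have hE : ¬ zl (S : Subgroup G) P ≤ EE (S : Subgroup G) P := fun h5 => h.one.not_le (h5.trans inf_le_right)
        rcases relIndex_two_or h hE with h5 | h5
        · exact ty_two h hoff hZ h5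
        · exact h2 G S P M F hf hp h3 (Or.inr h5)
      · exact h2 G S P M F hf hp h3 (Or.inl hZ)
    · exact h4 G S P M F hf hp h3

end Cfsg.Agent.Omega.NO1
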