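import Cfsg.Agent.Mrg.Omega.NO1.TH.OfFrTwo
import Cfsg.Agent.Mrg.Omega.NO1.TH.AllOut
import Cfsg.Agent.Mrg.Omega.NO1.TH.K.SockSym
import Cfsg.Agent.Mrg.Omega.NO1.B0.NinF
import Cfsg.Agent.Mrg.Omega.NO1.Field.Main
import Cfsg.Agent.Mrg.Omega.NO1.FrPlusMain


/-!
# CARD N1-ONE: the end

* `allOut` : the chain (bb OMEGA 19584, 20935, 21423), unconditional;
* `sockBeta` : FIN-BETA (helper183, helper321);
* `frTwo : FrTwo`, `frOne : Comp.FrOne`, `frFour : FrFour`, `btNot : BTNot`.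
-/

set_option autoImplicit false

namespace Cfsg.Agent.Omega.NO1

open TH

universe u

/-- **The chain.** -/
theorem allOut : AllOut.{u} := allOut_of_sym sockSym

/-- **FIN-BETA** -/
theorem sockBeta : SockBeta.{u} := fun _ _ _ _ _ _ _ _ _ _ _ w ha _ one h5 _ _ _ _ hA hAL _ hLM hRT h0 hC hne =>
  false_of_beta w ha one h5 hA hAL hLM hRT h0 hC hne

/-- **`FrTwo`** -/
theorem frTwo : FrTwo.{u} := frTwo_of_out Field.sl2Spr Field.noSz' allOut

/-- **`FrOne`** -/
theorem frOne : Comp.FrOne.{u} := frOne_of_out Field.sl2Spr Field.noSz' allOut sockBeta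

/-- **`FrFour`** -/
theorem frFour : FrFour.{u} := Comp.frFour_of_one frOne

/-- **`BTNot`** -/
theorem btNot : BTNot.{u} := btNot_of_fr' frFour frTwo

end Cfsg.Agent.Omega.NO1
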