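import Cfsg.Agent.Mrg.Omega.NO1.FrRep
import Cfsg.Agent.Mrg.Omega.NO1.HE.End


/-!
# (+) for a frame with `|V_P : V_P ∩ E_F| ≥ 4` gives `MinusQ` (text #17521, helper438)
-/

set_option autoImplicit false
set_option linter.unusedSectionVars false

namespace Cfsg.Agent.Omega.NO1.FrRep

open Subgroup Cfsg Cfsg.Agent.ZN Cfsg.Agent.Omega.MinPar Cfsg.Agent.Omega.Frame
open scoped Pointwise

universe u

variable {G : Type u} [Group G] [Finite G] {S : Sylow 2 G} {P M F : Subgroup G}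

/-- 438's frame. -/
theorem exists_fra {Y V : Type u} [Group Y] [Finite Y] [AddCommGroup V] [DistribMulAction Y V] {T : Sylow 2 Y}
    {Mx : Subgroup Y} (R : Rep (S : Subgroup G) P (zl (S : Subgroup G) P) Y V T Mx) (h : Fr S P M F)
    (hp : PlusAt (S : Subgroup G) P (NOne.Flat.EE (zl (S : Subgroup G) M) F)) :
    ∃ B : Subgroup Y, HE.Fra T Mx (co R (NOne.Flat.EE (zl (S : Subgroup G) M) F)) (co R F) B := by
  obtain ⟨B, hB⟩ := exists_fr' R h hp
  refine ⟨B, hB.BT, hB.comm, hB.sq, hB.FE, hB.VB, hB.EB, hB.FB, hB.CB, hB.inj, hB.surj, hB.ne, hB.ne', ?_⟩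
  intro T' hv t ht
  obtain ⟨q, hq⟩ := (top1 R h).pts.ex T'
  obtain rfl := hB.plus T' q hq hv
  have h1 := hq t ht
  change ((t * 1 : Y) : Y ⧸ Mx) = ((1 : Y) : Y ⧸ Mx) at h1
  rw [mul_one, eq_comm, QuotientGroup.eq, inv_one, one_mul] at h1
  exact h1

/-- **(+), `|V_P : V_P ∩ E_F| ≥ 4`** -/
theorem ty_of_plus (h : Fr S P M F) (hp : PlusAt (S : Subgroup G) P (NOne.Flat.EE (zl (S : Subgroup G) M) F))
    (h4 : 4 ≤ (NOne.Flat.EE (zl (S : Subgroup G) M) F).relIndex (zl (S : Subgroup G) P)) :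
    Ty (S : Subgroup G) P := by
  obtain ⟨Y, V, _, _, _, _, _, T, Mx, ⟨R⟩⟩ := h.cfg.exists_rep
  obtain ⟨B, hB⟩ := exists_fra R h hp
  refine HE.minusQ R hB ?_
  rw [index_co]
  exact h4

end Cfsg.Agent.Omega.NO1.FrRep
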