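import Cfsg.Agent.Mrg.Omega.Transv.Basic

section


/-!
# Theorem NAT of NO-1', step (5), part A

The configuration `Fv`, the component `W1` of `p = cl e`, the group `M1 = ⟨V1^J⟩`, and the homomorphisms
`m ↦ c m c⁻¹ m⁻¹` of the elements `c ∈ J` that act trivially on `W1`.
-/

set_option autoImplicit false
set_option linter.unusedSectionVars false

namespace Cfsg.Agent.Omega.NO1.NatFive

open Subgroup Cfsg.Agent.Omega.Transv Cfsg.Agent.Omega.NO1.MiniMcL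

universe u v

variable {G : Type u} [Group G]

/-- the orbit of `cl e` -/
def Pt (C : Subgroup G) {M : Type v} [AddCommGroup M] [DistribMulAction C M] (a : M) : Set M :=
  {m | ∃ c : C, m = c • a}

theorem self_mem_Pt (C : Subgroup G) {M : Type v} [AddCommGroup M] [DistribMulAction C M] (a : M) :
    a ∈ Pt C a := ⟨1, (one_smul C a).symm⟩

/-- input of (5): `M = W / Wc`, `cl : W → M` -/
structure Fv (C J V V1 W Wc : Subgroup G) (z e : G) {M : Type v} [AddCommGroup M]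
    [Module (ZMod 2) M] [DistribMulAction C M] (cl : G → M) : Prop where
  JC : J ≤ C
  Jn : ∀ c ∈ C, ∀ x ∈ J, c * x * c⁻¹ ∈ J
  VJ : V ≤ J
  Jgen : ∀ X : Subgroup G, (∀ c ∈ C, ∀ v ∈ V, c * v * c⁻¹ ∈ X) → J ≤ X
  V1V : V1 ≤ V
  V1W : V1 ≤ W
  V1_iff : ∀ x, x ∈ V1 ↔ x = 1 ∨ x = z ∨ x = e ∨ x = e * z
  Wn : ∀ c ∈ C, ∀ w ∈ W, c * w * c⁻¹ ∈ W
  Wcomm : ∀ a ∈ W, ∀ b ∈ W, a * b = b * a
  Wsq : ∀ a ∈ W, a * a = 1
  Wgen : ∀ X : Subgroup G, (∀ c ∈ C, ∀ v ∈ V1, c * v * c⁻¹ ∈ X) → W ≤ X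
  WcW : Wc ≤ W
  WcJ : ∀ w ∈ Wc, ∀ x ∈ J, x * w = w * x
  zWc : z ∈ Wc
  zC : ∀ c ∈ C, c * z = z * c
  comm_mem : ∀ v ∈ V, ∀ w ∈ W, v * w * v⁻¹ * w⁻¹ ∈ V1
  comm_surj : ∀ v ∈ V, v ∉ V1 → ∀ y ∈ V1, ∃ w ∈ W, v * w * v⁻¹ * w⁻¹ = y
  four : ∃ a ∈ V, ∃ b ∈ V, a ∉ V1 ∧ b ∉ V1 ∧ a * b ∉ V1
  cl_mul : ∀ a ∈ W, ∀ b ∈ W, cl (a * b) = cl a + cl b
  cl_ker : ∀ a ∈ W, (cl a = 0 ↔ a ∈ Wc)
  cl_smul : ∀ c : C, ∀ a ∈ W, c • cl a = cl (c * a * (c : G)⁻¹)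
  exists_cl : ∀ m : M, ∃ a ∈ W, cl a = m
  act : ∀ v : C, (v : G) ∈ V → ∃ φ : Du M, ∀ m : M, v • m = m + φ m • cl e
  cfg : Cfg (J.subgroupOf C) (Pt C (cl e))

variable {C J V V1 W Wc : Subgroup G} {z e : G} {M : Type v} [AddCommGroup M]
  [Module (ZMod 2) M] [DistribMulAction C M] {cl : G → M}

namespace Fv

variable (F : Fv C J V V1 W Wc z e cl)
include F

theorem eV1 : e ∈ V1 := (F.V1_iff e).2 (Or.inr (Or.inr (Or.inl rfl)))

theorem zV1 : z ∈ V1 := (F.V1_iff z).2 (Or.inr (Or.inl rfl))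

theorem eW : e ∈ W := F.V1W F.eV1

theorem VC : V ≤ C := F.VJ.trans F.JC

theorem ne : cl e ≠ 0 := F.cfg.ne _ (self_mem_Pt C _)

theorem cl_one : cl 1 = 0 := (F.cl_ker 1 (one_mem _)).2 (one_mem _)

theorem cl_z : cl z = 0 := (F.cl_ker z (F.WcW F.zWc)).2 F.zWc

theorem cl_inv {a : G} (ha : a ∈ W) : cl a⁻¹ = cl a := by
  rw [inv_eq_of_mul_eq_one_left (F.Wsq a ha)]

theorem cl_ez : cl (e * z) = cl e := by
  rw [F.cl_mul e F.eW z (F.WcW F.zWc), F.cl_z, add_zero]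

theorem zsq : z * z = 1 := F.Wsq z (F.WcW F.zWc)

theorem esq : e * e = 1 := F.Wsq e F.eW

/-- elements of `V1` -/
theorem V1_cases {x : G} (hx : x ∈ V1) : (cl x = 0 ∧ (x = 1 ∨ x = z)) ∨ (cl x = cl e ∧ (x = e ∨ x = e * z)) := by
  rcases (F.V1_iff x).1 hx with h | h | h | h
  · subst h; exact Or.inl ⟨F.cl_one, Or.inl rfl⟩
  · subst h; exact Or.inl ⟨F.cl_z, Or.inr rfl⟩
  · subst h; exact Or.inr ⟨rfl, Or.inl rfl⟩
  · subst h; exact Or.inr ⟨F.cl_ez, Or.inr rfl⟩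

theorem V1_zero {x : G} (hx : x ∈ V1) (h : cl x = 0) : x = 1 ∨ x = z := by
  rcases F.V1_cases hx with h1 | h1
  · exact h1.2
  · rw [h1.1] at h
    exact absurd h F.ne

theorem V1_ne {x : G} (hx : x ∈ V1) (h : cl x ≠ 0) : cl x = cl e ∧ (x = e ∨ x = e * z) := by
  rcases F.V1_cases hx with h1 | h1
  · exact absurd h1.1 h
  · exact h1

/-- the component of `p = cl e` -/
noncomputable def W1 [Finite M] : Submodule (ZMod 2) M := F.cfg.comp (self_mem_Pt C (cl e))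

theorem p_mem [Finite M] : cl e ∈ F.W1 := F.cfg.self_mem_comp _

theorem mem_Phi {q : M} {φ : Du M} (h : φ ∈ Phi (J.subgroupOf C) q) :
    φ q = 0 ∧ ∃ d : C, (d : G) ∈ J ∧ ∀ m : M, d • m = m + φ m • q := by
  obtain ⟨h1, d, h2, h3⟩ := h
  exact ⟨h1, d, h2, h3⟩

/-- the functional of `v ∈ V` -/
theorem exists_phi {v : C} (hv : (v : G) ∈ V) :
    ∃ φ ∈ Phi (J.subgroupOf C) (cl e), ∀ m : M, v • m = m + φ m • cl e := by
  obtain ⟨φ, h1⟩ := F.act v hv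
  refine ⟨φ, ⟨?_, v, F.VJ hv, h1⟩, h1⟩
  refine eq_zero_of_ne fun h2 => F.ne ?_
  have h3 := h1 (cl e)
  rw [h2, one_smul, add_self] at h3
  have h4 : v⁻¹ • (v • cl e) = v⁻¹ • (0 : M) := by rw [h3]
  rwa [inv_smul_smul, smul_zero] at h4

/-- `J` acts on the component -/
theorem J_W1 [Finite M] {x : C} (hx : (x : G) ∈ J) {m : M} (hm : m ∈ F.W1) : x • m ∈ F.W1 := by
  let Y : Subgroup C :=
    { carrier := {c | ∀ m : M, m ∈ F.W1 ↔ c • m ∈ F.W1}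
      one_mem' := fun m => by rw [one_smul]
      mul_mem' := fun {a b} ha hb m => by rw [mul_smul, ← ha, ← hb]
      inv_mem' := fun {a} ha m => by rw [ha (a⁻¹ • m), smul_inv_smul] }
  have h1 : J ≤ Y.map C.subtype := by
    refine F.Jgen _ fun c hc v hv => ?_
    have key : ∀ v : G, v ∈ V → ∀ (h : c * v * c⁻¹ ∈ C) (m : M), m ∈ F.W1 →
        (⟨c * v * c⁻¹, h⟩ : C) • m ∈ F.W1 := by
      intro v hv h m hm
      obtain ⟨φ, h2, h3⟩ := F.exists_phi (v := ⟨v, F.VC hv⟩) hv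
      have := F.cfg.nor
      have h4 := Phi_smul (⟨c, hc⟩ : C) h2
      have h5 : (⟨c * v * c⁻¹, h⟩ : C) = ⟨c, hc⟩ * ⟨v, F.VC hv⟩ * (⟨c, hc⟩ : C)⁻¹ := rfl
      have h6 : (⟨c * v * c⁻¹, h⟩ : C) • m = m + dua (⟨c, hc⟩ : C) φ m • ((⟨c, hc⟩ : C) • cl e) := by
        rw [h5, mul_smul, mul_smul, h3, smul_add, smul_inv_smul, smul_zmod, dua_apply]
      rw [h6]
      exact F.cfg.comp_add _ ⟨_, rfl⟩ h4 hm
    have hC : c * v * c⁻¹ ∈ C := mul_mem (mul_mem hc (F.VC hv)) (inv_mem hc)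
    refine ⟨⟨c * v * c⁻¹, hC⟩, fun m => ⟨key v hv hC m, fun h => ?_⟩, rfl⟩
    have hC' : c * v⁻¹ * c⁻¹ ∈ C := mul_mem (mul_mem hc (inv_mem (F.VC hv))) (inv_mem hc)
    have h2 := key v⁻¹ (inv_mem hv) hC' _ h
    rw [← mul_smul] at h2
    have h3 : (⟨c * v⁻¹ * c⁻¹, hC'⟩ : C) * ⟨c * v * c⁻¹, hC⟩ = 1 := by
      apply Subtype.ext
      change c * v⁻¹ * c⁻¹ * (c * v * c⁻¹) = 1
      group
    rwa [h3, one_smul] at h2
  obtain ⟨y, hy, h2⟩ := h1 hx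
  have h3 : y = x := Subtype.ext h2
  subst h3
  exact (hy m).1 hm

theorem J_W1_iff [Finite M] {x : C} (hx : (x : G) ∈ J) {m : M} : x • m ∈ F.W1 ↔ m ∈ F.W1 := by
  refine ⟨fun h => ?_, F.J_W1 hx⟩
  have h1 := F.J_W1 (x := x⁻¹) (inv_mem hx) h
  rwa [inv_smul_smul] at h1

omit F in
/-- `M1 = ⟨V1^J⟩` -/
def M1 (J V1 : Subgroup G) : Subgroup G := closure {y | ∃ x ∈ J, ∃ u ∈ V1, y = x * u * x⁻¹}

theorem V1_le : V1 ≤ M1 J V1 := fun u hu => subset_closure ⟨1, one_mem J, u, hu, by group⟩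

theorem M1_le : M1 J V1 ≤ W := by
  rw [M1, closure_le]
  rintro y ⟨x, hx, u, hu, rfl⟩
  exact F.Wn x (F.JC hx) u (F.V1W hu)

omit F in
theorem M1_conj {c : G} (h1 : ∀ x ∈ J, c * x * c⁻¹ ∈ J) (h2 : ∀ u ∈ V1, c * u * c⁻¹ ∈ V1) {m : G}
    (hm : m ∈ M1 J V1) : c * m * c⁻¹ ∈ M1 J V1 := by
  have h : M1 J V1 ≤ (M1 J V1).comap (MulAut.conj c).toMonoidHom := by
    conv_lhs => rw [M1]
    rw [closure_le]
    rintro y ⟨x, hx, u, hu, rfl⟩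
    refine subset_closure ⟨c * x * c⁻¹, h1 x hx, c * u * c⁻¹, h2 u hu, ?_⟩
    simp only [MulEquiv.toMonoidHom_eq_coe, MonoidHom.coe_coe, MulAut.conj_apply]
    group
  exact h hm

omit F in
theorem M1_conj_J {c : G} (hc : c ∈ J) {m : G} (hm : m ∈ M1 J V1) : c * m * c⁻¹ ∈ M1 J V1 := by
  have h : M1 J V1 ≤ (M1 J V1).comap (MulAut.conj c).toMonoidHom := by
    conv_lhs => rw [M1]
    rw [closure_le]
    rintro y ⟨x, hx, u, hu, rfl⟩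
    refine subset_closure ⟨c * x, mul_mem hc hx, u, hu, ?_⟩
    simp only [MulEquiv.toMonoidHom_eq_coe, MonoidHom.coe_coe, MulAut.conj_apply]
    group
  exact h hm

theorem cl_M1 [Finite M] {m : G} (hm : m ∈ M1 J V1) : cl m ∈ F.W1 := by
  have h : ∀ m ∈ M1 J V1, m ∈ W ∧ cl m ∈ F.W1 := by
    intro m hm
    rw [M1] at hm
    induction hm using closure_induction with
    | mem y hy =>
      obtain ⟨x, hx, u, hu, rfl⟩ := hy
      refine ⟨F.Wn x (F.JC hx) u (F.V1W hu), ?_⟩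
      rw [← F.cl_smul ⟨x, F.JC hx⟩ u (F.V1W hu)]
      refine F.J_W1 hx ?_
      rcases F.V1_cases hu with h | h
      · rw [h.1]; exact zero_mem _
      · rw [h.1]; exact F.p_mem
    | one => exact ⟨one_mem _, by rw [F.cl_one]; exact zero_mem _⟩
    | mul a b ha hb h1 h2 => exact ⟨mul_mem h1.1 h2.1, by rw [F.cl_mul a h1.1 b h2.1]; exact add_mem h1.2 h2.2⟩
    | inv a ha h1 => exact ⟨inv_mem h1.1, by rw [F.cl_inv h1.1]; exact h1.2⟩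
  exact (h m hm).2

/-- `J` is transitive on the component -/
theorem exists_J [Finite M] {q : M} (hq : q ∈ F.W1) (h0 : q ≠ 0) : ∃ x : C, (x : G) ∈ J ∧ x • cl e = q := by
  by_cases hqp : q = cl e
  · exact ⟨1, one_mem _, by rw [one_smul, hqp]⟩
  have hp := self_mem_Pt C (cl e)
  have h1 : cl e + q ∈ F.W1 := add_mem F.p_mem hq
  have h2 : cl e + q ≠ 0 := fun h => hqp (eq_of_add h).symm
  have h3 : cl e + q ≠ cl e := fun h => h0 (left_eq_add.mp h.symm)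
  have h4 := F.cfg.comp_pts hp h1 h2
  obtain ⟨φ, h5, h6⟩ := F.cfg.Phi_sep hp h1 h2 h3
  obtain ⟨ψ, h7, h8⟩ := F.cfg.adj_symm hp h4 ⟨φ, h5, h6⟩
  obtain ⟨-, d, h9, h10⟩ := F.mem_Phi h7
  refine ⟨d, h9, ?_⟩
  rw [h10, h8, one_smul, ← add_assoc, add_self, zero_add]

theorem exists_M1 [Finite M] {q : M} (hq : q ∈ F.W1) : ∃ m ∈ M1 J V1, cl m = q := by
  by_cases h0 : q = 0
  · exact ⟨1, one_mem _, by rw [h0, F.cl_one]⟩
  obtain ⟨x, hx, h1⟩ := F.exists_J hq h0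
  refine ⟨x * e * (x : G)⁻¹, subset_closure ⟨x, hx, e, F.eV1, rfl⟩, ?_⟩
  rw [← F.cl_smul x e F.eW, h1]

/-- the elements of `J` that act trivially on the component -/
def KW [Finite M] : Subgroup C where
  carrier := {x | (x : G) ∈ J ∧ ∀ m ∈ F.W1, x • m = m}
  one_mem' := ⟨one_mem _, fun m _ => one_smul _ m⟩
  mul_mem' := fun {a b} ha hb => ⟨mul_mem ha.1 hb.1, fun m hm => by rw [mul_smul, hb.2 m hm, ha.2 m hm]⟩
  inv_mem' := fun {a} ha => ⟨inv_mem ha.1, fun m hm => by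
    conv_lhs => rw [← ha.2 m hm]
    rw [inv_smul_smul]⟩

theorem mem_KW [Finite M] {x : C} : x ∈ F.KW ↔ (x : G) ∈ J ∧ ∀ m ∈ F.W1, x • m = m := Iff.rfl

theorem KW_conj [Finite M] {x c : C} (hx : (x : G) ∈ J) (hc : c ∈ F.KW) : x * c * x⁻¹ ∈ F.KW := by
  refine ⟨mul_mem (mul_mem hx hc.1) (inv_mem hx), fun m hm => ?_⟩
  rw [mul_smul, mul_smul, hc.2 _ (F.J_W1 (x := x⁻¹) (inv_mem hx) hm), smul_inv_smul]

omit F in
/-- `c m c⁻¹ m⁻¹` -/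
def fc (c : C) (m : G) : G := c * m * (c : G)⁻¹ * m⁻¹

theorem fc_mem [Finite M] {c : C} (hc : c ∈ F.KW) {m : G} (hm : m ∈ M1 J V1) : fc c m ∈ Wc := by
  have h1 := F.M1_le hm
  have h2 := F.Wn c c.2 m h1
  have h3 : fc c m ∈ W := mul_mem h2 (inv_mem h1)
  rw [← F.cl_ker _ h3, fc, F.cl_mul _ h2 _ (inv_mem h1), F.cl_inv h1, ← F.cl_smul c m h1,
    hc.2 _ (F.cl_M1 hm), add_self]

theorem fc_M1 [Finite M] {c : C} (hc : (c : G) ∈ J) {m : G} (hm : m ∈ M1 J V1) : fc c m ∈ M1 J V1 :=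
  mul_mem (M1_conj_J hc hm) (inv_mem hm)

/-- `f_c` is a homomorphism -/
theorem fc_mul [Finite M] {c : C} (hc : c ∈ F.KW) {m m' : G} (hm : m ∈ M1 J V1) (hm' : m' ∈ M1 J V1) :
    fc c (m * m') = fc c m * fc c m' := by
  have h1 := F.WcW (F.fc_mem hc hm')
  have h2 := F.Wcomm _ (F.M1_le hm) _ h1
  have e : fc c (m * m') = (c * m * (c : G)⁻¹) * (fc c m' * m⁻¹) := by
    rw [fc, fc]; group
  have h3 := F.Wcomm _ (inv_mem (F.M1_le hm)) _ h1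
  rw [e, ← h3, ← mul_assoc]
  rfl

/-- `f_c` vanishes on `Wc` -/
theorem fc_Wc {c : C} (hc : (c : G) ∈ J) {m : G} (hm : m ∈ Wc) : fc c m = 1 := by
  rw [fc, F.WcJ m hm c hc]
  group

theorem fc_eq_of_cl [Finite M] {c : C} (hc : c ∈ F.KW) {m m' : G} (hm : m ∈ M1 J V1) (hm' : m' ∈ M1 J V1)
    (h : cl m = cl m') : fc c m = fc c m' := by
  have h1 : m * m' ∈ Wc := by
    rw [← F.cl_ker _ (mul_mem (F.M1_le hm) (F.M1_le hm')), F.cl_mul _ (F.M1_le hm) _ (F.M1_le hm'), h,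
      add_self]
  have h2 := F.fc_mul hc hm hm'
  rw [F.fc_Wc hc.1 h1] at h2
  have h3 := F.Wsq _ (F.WcW (F.fc_mem hc hm'))
  have h4 : fc c m * fc c m' = fc c m' * fc c m' := by rw [← h2, h3]
  exact mul_right_cancel h4

/-- `f_{cc'} = f_c f_{c'}` -/
theorem fc_mul_left [Finite M] {c c' : C} (hc : c ∈ F.KW) (hc' : c' ∈ F.KW) {m : G} (hm : m ∈ M1 J V1) :
    fc (c * c') m = fc c m * fc c' m := by
  have h1 := F.fc_mem hc' hm
  have h2 := F.WcJ _ h1 _ hc.1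
  have h3 : fc (c * c') m = (c * fc c' m) * m * (c : G)⁻¹ * m⁻¹ := by
    rw [fc, fc, Subgroup.coe_mul]; group
  have h4 := F.Wcomm _ (F.WcW h1) _ (F.WcW (F.fc_mem hc hm))
  rw [h3, h2, ← h4]
  rw [fc, fc]; group

theorem fc_inv_left [Finite M] {c : C} (hc : c ∈ F.KW) {m : G} (hm : m ∈ M1 J V1) :
    fc c⁻¹ m = fc c m := by
  have h1 := F.fc_mul_left hc (inv_mem hc) hm
  have h2 : fc (c * c⁻¹) m = 1 := by
    rw [mul_inv_cancel, fc, OneMemClass.coe_one]; group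
  rw [h2] at h1
  have h3 := F.Wsq _ (F.WcW (F.fc_mem hc hm))
  rw [← h3] at h1
  exact (mul_left_cancel h1).symm

/-- conjugation by `x ∈ J` -/
theorem fc_conj [Finite M] {x c : C} (hx : (x : G) ∈ J) (hc : c ∈ F.KW) {m : G} (hm : m ∈ M1 J V1) :
    fc (x * c * x⁻¹) m = fc c ((x : G)⁻¹ * m * x) := by
  have h0 : (x : G)⁻¹ * m * x ∈ M1 J V1 := by
    have := M1_conj_J (V1 := V1) (inv_mem hx) hm
    rwa [inv_inv] at this
  have h1 := F.WcJ _ (F.fc_mem hc h0) _ hx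
  have h2 : fc (x * c * x⁻¹) m = (x * fc c ((x : G)⁻¹ * m * x)) * (x : G)⁻¹ := by
    rw [fc, fc, Subgroup.coe_mul, Subgroup.coe_mul, Subgroup.coe_inv]; group
  rw [h2, h1, mul_inv_cancel_right]

end Fv

end Cfsg.Agent.Omega.NO1.NatFive

end

section


/-!
# Theorem NAT of NO-1', step (5), part B

The group `WP` of the `w ∈ Wc` such that `J ∩ C(W1)` realises all rank one maps `m ↦ φ(m) w`; it contains all
values `c m c⁻¹ m⁻¹`, `c ∈ J ∩ C(W1)`, `m ∈ M1`.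
-/

set_option autoImplicit false
set_option linter.unusedSectionVars false

namespace Cfsg.Agent.Omega.NO1.NatFive

open Subgroup Cfsg.Agent.Omega.Transv Cfsg.Agent.Omega.NO1.MiniMcL

universe u v

variable {G : Type u} [Group G]

/-- `w ^ a` -/
def pw (a : ZMod 2) (w : G) : G := if a = 0 then 1 else w

theorem pw_zero (w : G) : pw 0 w = 1 := if_pos rfl

theorem pw_one (w : G) : pw 1 w = w := if_neg one_ne

theorem pw_add {w : G} (hw : w * w = 1) (a b : ZMod 2) : pw (a + b) w = pw a w * pw b w := by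
  rcases zmod_cases a with h | h <;> rcases zmod_cases b with h' | h' <;> subst h <;> subst h'
  · rw [add_zero, pw_zero, mul_one]
  · rw [zero_add, pw_zero, one_mul]
  · rw [add_zero, pw_zero, mul_one]
  · rw [one_add_one, pw_zero, pw_one, hw]

variable {C J V V1 W Wc : Subgroup G} {z e : G} {M : Type v} [AddCommGroup M]
  [Module (ZMod 2) M] [DistribMulAction C M] {cl : G → M}

namespace Fv

/-- `c` induces `m ↦ φ(m) w` -/
def Rl (J V1 : Subgroup G) (cl : G → M) (c : C) (φ : Du M) (w : G) : Prop :=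
  ∀ m ∈ M1 J V1, fc c m = pw (φ (cl m)) w

variable (F : Fv C J V V1 W Wc z e cl) [Finite M]
include F

theorem Rl_mul {c c' : C} (hc : c ∈ F.KW) (hc' : c' ∈ F.KW) {φ : Du M} {w w' : G}
    (h : Rl J V1 cl c φ w) (h' : Rl J V1 cl c' φ w') : Rl J V1 cl (c * c') φ (w * w') := by
  intro m hm
  rw [F.fc_mul_left hc hc' hm, h m hm, h' m hm]
  rcases zmod_cases (φ (cl m)) with h1 | h1
  · rw [h1, pw_zero, pw_zero, pw_zero, one_mul]
  · rw [h1, pw_one, pw_one, pw_one]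

/-- conjugation with a transvection -/
theorem Rl_conj {x c : C} (hx : (x : G) ∈ J) (hc : c ∈ F.KW) {φ χ : Du M} {r : M}
    (hχ : χ r = 0) (hxr : ∀ m : M, x • m = m + χ m • r) {w : G} (h : Rl J V1 cl c φ w) :
    Rl J V1 cl (x * c * x⁻¹) (φ + φ r • χ) w := by
  intro m hm
  have h0 : (x : G)⁻¹ * m * x ∈ M1 J V1 := by
    have := M1_conj_J (V1 := V1) (inv_mem hx) hm
    rwa [inv_inv] at this
  rw [F.fc_conj hx hc hm, h _ h0]
  congr 1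
  have h1 : cl ((x : G)⁻¹ * m * x) = x⁻¹ • cl m := by
    rw [F.cl_smul x⁻¹ m (F.M1_le hm), Subgroup.coe_inv, inv_inv]
  rw [h1, ← dua_apply, dua_of_act hχ hxr]

/-- `WP` -/
def WP : Subgroup G where
  carrier := {w | w ∈ Wc ∧ ∀ q ∈ F.W1, q ≠ 0 → ∀ φ ∈ Phi (J.subgroupOf C) q, ∃ c ∈ F.KW, Rl J V1 cl c φ w}
  one_mem' := by
    refine ⟨one_mem _, fun q _ _ φ _ => ⟨1, one_mem _, fun m hm => ?_⟩⟩
    rcases zmod_cases (φ (cl m)) with h1 | h1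
    · rw [h1, pw_zero, fc, OneMemClass.coe_one]; group
    · rw [h1, pw_one, fc, OneMemClass.coe_one]; group
  mul_mem' := by
    rintro w w' ⟨hw, h⟩ ⟨hw', h'⟩
    refine ⟨mul_mem hw hw', fun q hq h0 φ hφ => ?_⟩
    obtain ⟨c, hc, h1⟩ := h q hq h0 φ hφ
    obtain ⟨c', hc', h1'⟩ := h' q hq h0 φ hφ
    exact ⟨c * c', mul_mem hc hc', F.Rl_mul hc hc' h1 h1'⟩
  inv_mem' := by
    rintro w ⟨hw, h⟩
    rw [inv_eq_of_mul_eq_one_left (F.Wsq w (F.WcW hw))]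
    exact ⟨hw, h⟩

theorem mem_WP {w : G} : w ∈ F.WP ↔ w ∈ Wc ∧ ∀ q ∈ F.W1, q ≠ 0 → ∀ φ ∈ Phi (J.subgroupOf C) q,
    ∃ c ∈ F.KW, Rl J V1 cl c φ w := Iff.rfl

/-- a nonzero functional of `Phi q` is nonzero on the component of `q` -/
theorem Phi_nz {q : M} (hq : q ∈ F.W1) (h0 : q ≠ 0) {φ : Du M} (hφ : φ ∈ Phi (J.subgroupOf C) q)
    (h1 : φ ≠ 0) : ∃ m ∈ F.W1, φ m = 1 := by
  by_contra hcon
  push Not at hcon
  have hp := self_mem_Pt C (cl e)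
  have h2 := F.cfg.comp_pts hp hq h0
  refine h1 (F.cfg.Phi_ext h2 hφ (zero_mem _) fun v hv => ?_)
  rw [F.cfg.comp_eq hp h2 hq] at hv
  rw [eq_zero_of_ne (hcon v hv)]
  rfl

/-- all functionals of `W1` that vanish at `q` come from `Phi q` -/
theorem Phi_full {q : M} (hq : q ∈ F.W1) (h0 : q ≠ 0) {χ : Du M} (hχ : χ q = 0) :
    ∃ φ ∈ Phi (J.subgroupOf C) q, ∀ m ∈ F.W1, φ m = χ m := by
  have hp := self_mem_Pt C (cl e)
  have h2 := F.cfg.comp_pts hp hq h0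
  obtain ⟨φ, h3, h4⟩ := F.cfg.Phi_full h2 (χ.comp (F.cfg.comp h2).subtype) hχ
  refine ⟨φ, h3, fun m hm => ?_⟩
  have h5 : m ∈ F.cfg.comp h2 := by
    rw [F.cfg.comp_eq hp h2 hq]
    exact hm
  exact h4 ⟨m, h5⟩

/-- there is a nonzero functional in `Phi q` -/
theorem exists_Phi {q : M} (hq : q ∈ F.W1) (h0 : q ≠ 0) : ∃ φ ∈ Phi (J.subgroupOf C) q, φ ≠ 0 := by
  obtain ⟨φ, h1, -, -, h2, -, -⟩ := F.cfg.two q (F.cfg.comp_pts (self_mem_Pt C (cl e)) hq h0)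
  exact ⟨φ, h1, h2⟩

/-- **all values are in `WP`** -/
theorem fc_mem_WP {c : C} (hc : c ∈ F.KW) {m : G} (hm : m ∈ M1 J V1) : fc c m ∈ F.WP := by
  have hw := F.fc_mem hc hm
  have hww := F.Wsq _ (F.WcW hw)
  by_cases hq0 : cl m = 0
  · rw [F.fc_Wc hc.1 ((F.cl_ker m (F.M1_le hm)).1 hq0)]
    exact one_mem _
  have hq := F.cl_M1 hm
  refine ⟨hw, ?_⟩
  -- functionals of `Phi (cl m)`
  have step1 : ∀ φ ∈ Phi (J.subgroupOf C) (cl m), ∃ c' ∈ F.KW, Rl J V1 cl c' φ (fc c m) := by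
    intro φ hφ
    obtain ⟨h1, x, hx, hxq⟩ := F.mem_Phi hφ
    refine ⟨x * c * x⁻¹ * c, mul_mem (F.KW_conj hx hc) hc, fun m' hm' => ?_⟩
    rw [F.fc_mul_left (F.KW_conj hx hc) hc hm', F.fc_conj hx hc hm']
    have h0 : (x : G)⁻¹ * m' * x ∈ M1 J V1 := by
      have := M1_conj_J (V1 := V1) (inv_mem hx) hm'
      rwa [inv_inv] at this
    have h2 : cl ((x : G)⁻¹ * m' * x) = cl m' + φ (cl m') • cl m := by
      have h3 : cl ((x : G)⁻¹ * m' * x) = x⁻¹ • cl m' := by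
        rw [F.cl_smul x⁻¹ m' (F.M1_le hm'), Subgroup.coe_inv, inv_inv]
      rw [h3, inv_smul_eq_iff, hxq, map_add, map_smul, h1, smul_zero, add_zero, add_add_self]
    have h4 := F.Wsq _ (F.WcW (F.fc_mem hc hm'))
    rcases zmod_cases (φ (cl m')) with h5 | h5
    · rw [h5, zero_smul, add_zero] at h2
      rw [F.fc_eq_of_cl hc h0 hm' h2, h4, h5, pw_zero]
    · rw [h5, one_smul, ← F.cl_mul _ (F.M1_le hm') _ (F.M1_le hm)] at h2
      rw [F.fc_eq_of_cl hc h0 (mul_mem hm' hm) h2, F.fc_mul hc hm' hm, h5, pw_one,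
        F.Wcomm _ (F.WcW (F.fc_mem hc hm')) _ (F.WcW hw), mul_assoc, h4, mul_one]
  intro q hqm hq1 ψ hψ
  by_cases hψ0 : ψ = 0
  · refine ⟨1, one_mem _, fun m' hm' => ?_⟩
    rw [hψ0, LinearMap.zero_apply, pw_zero, fc, OneMemClass.coe_one]
    group
  obtain ⟨φ, hφ, hφ0⟩ := F.exists_Phi hq hq0
  obtain ⟨c', hc', h1⟩ := step1 φ hφ
  obtain ⟨r, hr, hr1, hr2⟩ := exists_one_one (F.Phi_nz hq hq0 hφ hφ0) (F.Phi_nz hqm hq1 hψ hψ0)
  have hr0 : r ≠ 0 := fun h => by rw [h, map_zero] at hr1; exact one_ne hr1.symm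
  obtain ⟨χ, h2, h3⟩ := F.Phi_full hr hr0 (χ := φ + ψ) (by rw [LinearMap.add_apply, hr1, hr2, one_add_one])
  obtain ⟨h4, x, hx, hxr⟩ := F.mem_Phi h2
  refine ⟨x * c' * x⁻¹, F.KW_conj hx hc', fun m' hm' => ?_⟩
  rw [F.Rl_conj hx hc' h4 hxr h1 m' hm', LinearMap.add_apply, LinearMap.smul_apply, hr1, one_smul,
    h3 _ (F.cl_M1 hm'), LinearMap.add_apply, ← add_assoc, add_self, zero_add]

/-- a functional of `Phi q`, `q ∈ W1`, that takes the value `1` at `p` -/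
theorem exists_at_p : ∃ q ∈ F.W1, q ≠ 0 ∧ ∃ φ ∈ Phi (J.subgroupOf C) q, φ (cl e) = 1 := by
  have hp := self_mem_Pt C (cl e)
  obtain ⟨r, hr, hpr, -⟩ := F.cfg.exists_second (q := cl e) hp
  have h0 := F.cfg.ne r hr
  have h1 := F.cfg.adj_symm hp hr hpr
  obtain ⟨φ, h2, h3⟩ := h1
  exact ⟨r, Or.inr (Or.inr ⟨hr, hpr⟩), h0, φ, h2, h3⟩

/-- elements of `V - V1` have nonzero functionals -/
theorem phi_ne {v : C} (hv : (v : G) ∈ V) (hv1 : (v : G) ∉ V1) {φ : Du M}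
    (h : ∀ m : M, v • m = m + φ m • cl e) : φ ≠ 0 := by
  rintro rfl
  obtain ⟨w, hw, h1⟩ := F.comm_surj v hv hv1 e F.eV1
  have h2 := h (cl w)
  rw [LinearMap.zero_apply, zero_smul, add_zero, F.cl_smul v w hw] at h2
  have h3 : cl e = 0 := by
    have h4 := F.Wn v v.2 w hw
    rw [← h1, F.cl_mul _ h4 _ (inv_mem hw), F.cl_inv hw, h2, add_self]
  exact F.ne h3

/-- `v ∈ V - V1` whose functional vanishes at `q` -/
theorem exists_v (q : M) : ∃ v : C, (v : G) ∈ V ∧ (v : G) ∉ V1 ∧ ∃ φ ∈ Phi (J.subgroupOf C) (cl e),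
    (∀ m : M, v • m = m + φ m • cl e) ∧ φ q = 0 ∧ φ ≠ 0 := by
  obtain ⟨a, ha, b, hb, ha1, hb1, hab1⟩ := F.four
  obtain ⟨φ, h1, h2⟩ := F.exists_phi (v := ⟨a, F.VC ha⟩) ha
  obtain ⟨ψ, h3, h4⟩ := F.exists_phi (v := ⟨b, F.VC hb⟩) hb
  have h1' := F.phi_ne (v := ⟨a, F.VC ha⟩) ha ha1 h2
  have h3' := F.phi_ne (v := ⟨b, F.VC hb⟩) hb hb1 h4
  rcases zmod_cases (φ q) with h5 | h5
  · exact ⟨⟨a, F.VC ha⟩, ha, ha1, φ, h1, h2, h5, h1'⟩
  rcases zmod_cases (ψ q) with h6 | h6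
  · exact ⟨⟨b, F.VC hb⟩, hb, hb1, ψ, h3, h4, h6, h3'⟩
  have h7 : ∀ m : M, (⟨a * b, F.VC (mul_mem ha hb)⟩ : C) • m = m + (φ + ψ) m • cl e := by
    intro m
    have h8 : (⟨a * b, F.VC (mul_mem ha hb)⟩ : C) = ⟨a, F.VC ha⟩ * ⟨b, F.VC hb⟩ := rfl
    rw [h8, mul_smul, h4, h2, map_add, map_smul, h1.1, smul_zero, add_zero, LinearMap.add_apply, add_smul]
    abel
  exact ⟨⟨a * b, F.VC (mul_mem ha hb)⟩, mul_mem ha hb, hab1, φ + ψ, add_mem h1 h3, h7,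
    by rw [LinearMap.add_apply, h5, h6, one_add_one],
    F.phi_ne (v := ⟨a * b, F.VC (mul_mem ha hb)⟩) (mul_mem ha hb) hab1 h7⟩

/-- **the common computation**: `x ∈ J` acts as the transvection `(q, ψ)`, `ψ p = 0`.  There are `u ∈ V1` and `u' ∈ V1^x`
with `cl u = cl u' = p` and `u' = f_c(u) u f_c(m)` -/
theorem common {x : C} (hx : (x : G) ∈ J) {q : M} {ψ : Du M} (hψ : ψ ∈ Phi (J.subgroupOf C) q) (hψp : ψ (cl e) = 0) (hxq : ∀ m : M, x • m = m + ψ m • q) :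
    ∃ u ∈ V1, ∃ u' ∈ V1, ∃ c ∈ F.KW, ∃ m ∈ M1 J V1, cl u = cl e ∧ cl u' = cl e ∧
      (x : G) * u' * (x : G)⁻¹ = fc c u * u * fc c m := by
  obtain ⟨v, hv, hv1, φ, hφ, hvp, hφq, hφ0⟩ := F.exists_v q
  have hp := self_mem_Pt C (cl e)
  -- `v' = x v x⁻¹` acts in the same way
  have hxp : x • cl e = cl e := by rw [hxq, hψp, zero_smul, add_zero]
  have h1 : ∀ m : M, (x * v * x⁻¹) • m = m + φ m • cl e := by
    intro m
    rw [mul_smul, mul_smul, hvp, smul_add, smul_inv_smul, smul_zmod, hxp, ← dua_apply,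
      dua_of_act hψ.1 hxq, hφq, zero_smul, add_zero]
  -- `c = v' v⁻¹`
  have hc : x * v * x⁻¹ * v⁻¹ ∈ F.KW := by
    refine ⟨mul_mem (mul_mem (mul_mem hx (F.VJ hv)) (inv_mem hx)) (inv_mem (F.VJ hv)), fun m _ => ?_⟩
    rw [mul_smul, h1, ← hvp, smul_inv_smul]
  obtain ⟨t, ht, ht1⟩ := F.Phi_nz F.p_mem F.ne hφ hφ0
  obtain ⟨m, hm, rfl⟩ := F.exists_M1 ht
  have hmW := F.M1_le hm
  -- `u`
  have hu := F.comm_mem v hv m hmW
  have hclu : cl ((v : G) * m * (v : G)⁻¹ * m⁻¹) = cl e := by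
    rw [F.cl_mul _ (F.Wn v v.2 m hmW) _ (inv_mem hmW), F.cl_inv hmW, ← F.cl_smul v m hmW, hvp, ht1, one_smul,
      add_comm (cl m), add_add_self]
  -- `u'`
  have hm' : (x : G)⁻¹ * m * x ∈ W := by
    have := F.Wn (x : G)⁻¹ (inv_mem x.2) m hmW
    rwa [inv_inv] at this
  have hu' := F.comm_mem v hv _ hm'
  have h2 : (x : G) * (v * ((x : G)⁻¹ * m * x) * (v : G)⁻¹ * ((x : G)⁻¹ * m * x)⁻¹) * (x : G)⁻¹ =
      fc (x * v * x⁻¹ * v⁻¹) ((v : G) * m * (v : G)⁻¹ * m⁻¹) * ((v : G) * m * (v : G)⁻¹ * m⁻¹) *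
        fc (x * v * x⁻¹ * v⁻¹) m := by
    rw [fc, fc]
    simp only [Subgroup.coe_mul, Subgroup.coe_inv]
    group
  have hclu' : cl ((v : G) * ((x : G)⁻¹ * m * x) * (v : G)⁻¹ * ((x : G)⁻¹ * m * x)⁻¹) = cl e := by
    rw [F.cl_mul _ (F.Wn v v.2 _ hm') _ (inv_mem hm'), F.cl_inv hm', ← F.cl_smul v _ hm', hvp]
    have h3 : cl ((x : G)⁻¹ * m * x) = x⁻¹ • cl m := by
      rw [F.cl_smul x⁻¹ m hmW, Subgroup.coe_inv, inv_inv]
    have h4 : φ (cl ((x : G)⁻¹ * m * x)) = 1 := by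
      rw [h3, ← dua_apply, dua_of_act hψ.1 hxq, hφq, zero_smul, add_zero, ht1]
    rw [h4, one_smul, add_comm (cl ((x : G)⁻¹ * m * x)), add_add_self]
  exact ⟨_, hu, _, hu', _, hc, m, hm, hclu, hclu', h2⟩

end Fv

end Cfsg.Agent.Omega.NO1.NatFive

end
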